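import Cfsg.Agent.H780.QBasB
set_option linter.all false

/-! # S5176, section 5: the normal form of case (A8) (plan: tools/plans/S5176.md, tools/plans/S5176_five.lean) -/
set_option autoImplicit false

namespace Cfsg.Agent.H784.Q
open Cfsg Cfsg.FusionSystem Cfsg.Agent.H752 Cfsg.Agent.H784.SF

universe u

variable {Ω : Type u} [Group Ω] {S : Subgroup Ω}

/-- The normal form of case (A8): `ι = b w` inverts `M = ⟨a⟩ × ⟨d⟩`, `C_S(t) = M ∪ M ι`, and `β ∈ Aut_F(C_S(t))` is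
`a ↦ d⁻¹ ↦ d a⁻¹ ↦ a`, `ι ↦ ι`. (`a, k` as in `CaseA8`: `k = d² a⁻¹`, `c = k^(2^(m-2))`, `t = d^(2^(m-1)) = r c`.) -/
structure NF (F : FusionSystem S) (R : Subgroup Ω) (a b z r : Ω) (m : ℕ) (t c d k w : Ω) (β : Ω → Ω) : Prop
    extends CaseA8 F R a b z r m t c d k w β where
  βa' : β a = d⁻¹
  βd : β d = a * d⁻¹
  βi : β (b * w) = b * w

end Cfsg.Agent.H784.Q
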