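import Cfsg.Agent.H780.QBasB
import Cfsg.Agent.H757.Sf.Basic
import Cfsg.Agent.H780.QTrans_mg
import Cfsg.Agent.H745.Q.Cen_mg
import Cfsg.Agent.S5198
set_option linter.all false

-- part: H784/Q/CaseA5
section
/-! # S5176, section 4: (A7), (A8) (plan: tools/plans/S5176.md) -/
set_option autoImplicit false
set_option linter.unusedSectionVars false

namespace Cfsg.Agent.H784.Q
open Cfsg Cfsg.FusionSystem Cfsg.Agent.H752 Cfsg.Agent.H784.SF

universe u

section two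
variable {Ω : Type u} [Group Ω]

/-- The subgroup `M ∪ M b`. -/
def two (M : Subgroup Ω) (b : Ω) (h1 : ∀ x ∈ M, b * x * b⁻¹ ∈ M) (h2 : b * b ∈ M) : Subgroup Ω where
  carrier := {x | x ∈ M ∨ ∃ y ∈ M, x = y * b}
  one_mem' := Or.inl (one_mem _)
  mul_mem' := by
    rintro x y (hx | ⟨u, hu, rfl⟩) (hy | ⟨v, hv, rfl⟩)
    · exact Or.inl (mul_mem hx hy)
    · exact Or.inr ⟨x * v, mul_mem hx hv, by rw [mul_assoc]⟩
    · exact Or.inr ⟨u * (b * y * b⁻¹), mul_mem hu (h1 y hy), by group⟩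
    · left
      have : u * b * (v * b) = u * (b * v * b⁻¹) * (b * b) := by group
      rw [this]
      exact mul_mem (mul_mem hu (h1 v hv)) h2
  inv_mem' := by
    rintro x (hx | ⟨u, hu, rfl⟩)
    · exact Or.inl (inv_mem hx)
    · right
      refine ⟨(b * b)⁻¹ * (b * u⁻¹ * b⁻¹), mul_mem (inv_mem h2) (h1 _ (inv_mem hu)), ?_⟩
      group

theorem mem_two {M : Subgroup Ω} {b : Ω} {h1 : ∀ x ∈ M, b * x * b⁻¹ ∈ M} {h2 : b * b ∈ M} {x : Ω} :
    x ∈ two M b h1 h2 ↔ x ∈ M ∨ ∃ y ∈ M, x = y * b := Iff.rfl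

theorem le_two {M : Subgroup Ω} {b : Ω} {h1 : ∀ x ∈ M, b * x * b⁻¹ ∈ M} {h2 : b * b ∈ M} : M ≤ two M b h1 h2 := fun _ => Or.inl

theorem self_mem_two {M : Subgroup Ω} {b : Ω} {h1 : ∀ x ∈ M, b * x * b⁻¹ ∈ M} {h2 : b * b ∈ M} : b ∈ two M b h1 h2 :=
  Or.inr ⟨1, one_mem _, (one_mul b).symm⟩

theorem card_two {M : Subgroup Ω} {b : Ω} {h1 : ∀ x ∈ M, b * x * b⁻¹ ∈ M} {h2 : b * b ∈ M} (hb : b ∉ M) :
    Nat.card ↥(two M b h1 h2) = 2 * Nat.card M := by
  have h3 : M.relIndex (two M b h1 h2) = 2 := by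
    rw [Subgroup.relIndex_eq_two_iff_exists_notMem_and]
    refine ⟨b, self_mem_two, hb, ?_⟩
    rintro x (hx | ⟨y, hy, rfl⟩)
    · exact Or.inr hx
    · left
      rw [mul_assoc]
      exact mul_mem hy h2
  have h4 := Subgroup.relIndex_mul_relIndex ⊥ M (two M b h1 h2) bot_le le_two
  rw [Subgroup.relIndex_bot_left, Subgroup.relIndex_bot_left, h3] at h4
  rw [← h4, mul_comm]

theorem card_sup_comm {A B : Subgroup Ω} (hd : A ⊓ B = ⊥) (hc : ∀ x ∈ A, ∀ y ∈ B, x * y = y * x) :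
    Nat.card ↥(A ⊔ B : Subgroup Ω) = Nat.card ↥A * Nat.card ↥B := by
  have hc' : ∀ (a : ↥A) (b : ↥B), Commute (A.subtype a) (B.subtype b) := fun a b => hc a a.2 b b.2
  have hF : Function.Injective (MonoidHom.noncommCoprod A.subtype B.subtype hc') := by
    rw [MonoidHom.noncommCoprod_injective]
    refine ⟨Subgroup.subtype_injective _, Subgroup.subtype_injective _, ?_⟩
    rw [Subgroup.range_subtype, Subgroup.range_subtype]
    exact disjoint_iff.mpr hd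
  have h9 : (MonoidHom.noncommCoprod A.subtype B.subtype hc').range = A ⊔ B := by
    rw [MonoidHom.noncommCoprod_range, Subgroup.range_subtype, Subgroup.range_subtype]
  rw [← h9, ← Nat.card_congr (MonoidHom.ofInjective hF).toEquiv, Nat.card_prod]

end two

variable {Ω : Type u} [Group Ω] {S : Subgroup Ω} [Finite S] {F : FusionSystem S} {R : Subgroup Ω} {a b z r : Ω} {m : ℕ}
variable {t : Ω} {β : Ω → Ω} {c d k w : Ω}

section
variable (h : CaseA F R a b z r m t c d k β)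
include h

theorem CaseA.zpow_comm {x y : Ω} (hx : x ∈ Subgroup.zpowers a) (hy : y ∈ Subgroup.zpowers d) : x * y = y * x := by
  obtain ⟨i, rfl⟩ := hx
  obtain ⟨j, rfl⟩ := hy
  exact ((show Commute a d from h.da.symm).zpow_zpow i j).eq

theorem CaseA.mem_M5 {x : Ω} : x ∈ Subgroup.zpowers a ⊔ Subgroup.zpowers d ↔ ∃ i j : ℕ, x = a ^ i * d ^ j := by
  constructor
  · intro hx
    obtain ⟨u, hu, v, hv, rfl⟩ := sup_comm_mem (fun q hq t ht => h.zpow_comm hq ht) hx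
    obtain ⟨i, rfl⟩ := exists_nat_pow h.sit.qr.oa hu
    obtain ⟨j, rfl⟩ := exists_nat_pow h.od hv
    exact ⟨i, j, rfl⟩
  · rintro ⟨i, j, rfl⟩
    exact mul_mem (Subgroup.mem_sup_left (Subgroup.pow_mem _ (Subgroup.mem_zpowers a) i))
      (Subgroup.mem_sup_right (Subgroup.pow_mem _ (Subgroup.mem_zpowers d) j))

theorem CaseA.card_M : Nat.card ↥(Subgroup.zpowers a ⊔ Subgroup.zpowers d) = 2 ^ m * 2 ^ m := by
  rw [card_sup_comm h.disj (fun x hx y hy => h.zpow_comm hx hy), Nat.card_zpowers, Nat.card_zpowers, h.sit.qr.oa, h.od]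

theorem CaseA.b_out : b ∉ Subgroup.zpowers a ⊔ Subgroup.zpowers d := by
  intro hb
  obtain ⟨i, j, hij⟩ := h.mem_M5.mp hb
  have h1 : b * a = a * b := by
    rw [hij]
    have hc : Commute (a ^ i * d ^ j) a :=
      ((Commute.refl a).pow_left i).mul_left ((show Commute d a from h.da).pow_left j)
    exact hc.eq
  rw [h.sit.qr.ba] at h1
  have h2 : a⁻¹ = a := mul_right_cancel h1
  have h3 : a ^ 2 = 1 := by rw [pow_two]; nth_rewrite 1 [← h2]; exact inv_mul_cancel a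
  have h4 := orderOf_dvd_of_pow_eq_one h3
  rw [h.sit.qr.oa] at h4
  have h5 := Nat.le_of_dvd (by norm_num) h4
  have h6 : 2 ^ 3 ≤ 2 ^ m := Nat.pow_le_pow_right (by norm_num) h.sit.qr.m3
  omega

theorem CaseA.aS : a ∈ S := h.sit.RS h.sit.qr.aR

theorem CaseA.bS : b ∈ S := h.sit.RS h.sit.qr.bR

theorem CaseA.dS5 : d ∈ S := (mem_CS.mp h.dC).1

theorem CaseA.MS5 : Subgroup.zpowers a ⊔ Subgroup.zpowers d ≤ S :=
  sup_le (Subgroup.zpowers_le.mpr h.aS) (Subgroup.zpowers_le.mpr h.dS5)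

theorem CaseA.bM {x : Ω} (hx : x ∈ Subgroup.zpowers a ⊔ Subgroup.zpowers d) :
    b * x * b⁻¹ ∈ Subgroup.zpowers a ⊔ Subgroup.zpowers d := by
  obtain ⟨i, j, rfl⟩ := h.mem_M5.mp hx
  have h1 : b * a * b⁻¹ = a⁻¹ := by rw [h.sit.qr.ba, mul_inv_cancel_right]
  have h2 : b * d * b⁻¹ = d * a⁻¹ := by rw [h.bd, mul_inv_cancel_right]
  have h3 : b * (a ^ i * d ^ j) * b⁻¹ = (b * a * b⁻¹) ^ i * (b * d * b⁻¹) ^ j := by
    rw [conj_pow, conj_pow]; group
  rw [h3, h1, h2]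
  have haM : a ∈ Subgroup.zpowers a ⊔ Subgroup.zpowers d := Subgroup.mem_sup_left (Subgroup.mem_zpowers a)
  have hdM : d ∈ Subgroup.zpowers a ⊔ Subgroup.zpowers d := Subgroup.mem_sup_right (Subgroup.mem_zpowers d)
  exact mul_mem (Subgroup.pow_mem _ (inv_mem haM) i) (Subgroup.pow_mem _ (mul_mem hdM (inv_mem haM)) j)

theorem CaseA.zM5 : z ∈ Subgroup.zpowers a ⊔ Subgroup.zpowers d := Subgroup.mem_sup_left h.sit.qr.zA

theorem CaseA.bbM : b * b ∈ Subgroup.zpowers a ⊔ Subgroup.zpowers d := by rw [h.sit.qr.bb]; exact h.zM5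

theorem CaseA.kM : k ∈ Subgroup.zpowers a ⊔ Subgroup.zpowers d := by
  rw [h.hk]
  have haM : a ∈ Subgroup.zpowers a ⊔ Subgroup.zpowers d := Subgroup.mem_sup_left (Subgroup.mem_zpowers a)
  have hdM : d ∈ Subgroup.zpowers a ⊔ Subgroup.zpowers d := Subgroup.mem_sup_right (Subgroup.mem_zpowers d)
  exact mul_mem (mul_mem hdM hdM) (inv_mem haM)

/-- `R ≤ M ∪ M b`. -/
theorem CaseA.R_le : R ≤ two (Subgroup.zpowers a ⊔ Subgroup.zpowers d) b (fun _ => h.bM) h.bbM := by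
  intro x hx
  obtain ⟨i, rfl | rfl⟩ := h.sit.qr.gen x hx
  · exact le_two (Subgroup.mem_sup_left (Subgroup.pow_mem _ (Subgroup.mem_zpowers a) i))
  · exact mul_mem self_mem_two (le_two (Subgroup.mem_sup_left (Subgroup.pow_mem _ (Subgroup.mem_zpowers a) i)))

theorem CaseA.btb : b * t * b⁻¹ = t * z := by
  have h1 : b * r * b⁻¹ = r⁻¹ := by rw [h.sit.qr.br, mul_inv_cancel_right]
  have h2 : b * c * b⁻¹ = c := by
    rw [← (mem_K.mp h.cK).2 b h.sit.qr.bR, mul_inv_cancel_right]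
  have h3 : b * t * b⁻¹ = (b * r * b⁻¹) * (b * c * b⁻¹) := by rw [h.tc]; group
  rw [h3, h1, h2, h.sit.qr.rinv, h.tc, mul_assoc, mul_assoc]
  congr 1
  exact (h.sit.z_centr c (mem_K.mp h.cK).1).symm

/-- (A7) if `K` is cyclic then `S` is wreathed. -/
theorem CaseA.wreathed (hK : ∀ x ∈ centralizerIn S R, x ∈ Subgroup.zpowers k)
    (hg : S = R ⊔ centralizerIn S R ⊔ (Subgroup.zpowers a ⊔ Subgroup.zpowers d)) : IsWreathed ↥S ∧ Nat.card S = 2 ^ (2 * m + 1) := by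
  have hS : S = two (Subgroup.zpowers a ⊔ Subgroup.zpowers d) b (fun _ => h.bM) h.bbM := by
    apply le_antisymm
    · refine hg.le.trans (sup_le (sup_le h.R_le ?_) le_two)
      intro x hx
      apply le_two
      have h1 := hK x hx
      exact (Subgroup.zpowers_le.mpr h.kM) h1
    · rintro x (hx | ⟨y, hy, rfl⟩)
      · exact h.MS5 hx
      · exact mul_mem (h.MS5 hy) h.bS
  have hcard : Nat.card S = 2 ^ (2 * m + 1) := by
    have h1 := card_two (h1 := fun _ => h.bM) (h2 := h.bbM) h.b_out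
    rw [← hS, h.card_M] at h1
    rw [h1, ← pow_add, ← pow_succ']
    congr 1
    ring
  have hzt := VD.zt h.sit h.v
  have htS := VD.tS h.sit h.v
  have hy : d * a⁻¹ ∈ S := mul_mem h.dS5 (inv_mem h.aS)
  refine ⟨?_, hcard⟩
  refine ⟨m, by have := h.sit.qr.m3; omega, hcard, ⟨d, h.dS5⟩, ⟨d * a⁻¹, hy⟩, ⟨t * b, mul_mem htS h.bS⟩, ?_, ?_, ?_, ?_, ?_⟩
  · rw [Subgroup.orderOf_mk, h.od]
  · apply Subtype.ext
    show d * (d * a⁻¹) = d * a⁻¹ * d
    have hc : Commute d a := h.da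
    rw [mul_assoc, (hc.inv_right).eq]
  · rw [eq_bot_iff]
    rintro ⟨x, hxS⟩ ⟨⟨i, hi⟩, ⟨j, hj⟩⟩
    have hi : d ^ i = x := congrArg Subtype.val hi
    have hj : (d * a⁻¹) ^ j = x := by
      have := congrArg Subtype.val hj
      exact this
    have hc : Commute d a := h.da
    have h1 : (a ^ j)⁻¹ = (d ^ j)⁻¹ * x := by
      rw [← hj, (hc.inv_right).mul_zpow, inv_zpow, inv_mul_cancel_left]
    have h2 : (a ^ j)⁻¹ ∈ Subgroup.zpowers a ⊓ Subgroup.zpowers d := by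
      refine ⟨Subgroup.inv_mem _ (Subgroup.zpow_mem _ (Subgroup.mem_zpowers a) j), ?_⟩
      rw [h1, ← hi]
      exact Subgroup.mul_mem _ (Subgroup.inv_mem _ (Subgroup.zpow_mem _ (Subgroup.mem_zpowers d) j)) (Subgroup.zpow_mem _ (Subgroup.mem_zpowers d) i)
    rw [h.disj, Subgroup.mem_bot, inv_eq_one] at h2
    rw [Subgroup.mem_bot]
    apply Subtype.ext
    show x = 1
    have h3 : (2 ^ m : ℤ) ∣ j := by
      have := orderOf_dvd_iff_zpow_eq_one.mpr h2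
      rw [h.sit.qr.oa] at this
      exact_mod_cast this
    have h4 : d ^ j = 1 := by
      rw [← orderOf_dvd_iff_zpow_eq_one, h.od]
      exact_mod_cast h3
    rw [← hj, (hc.inv_right).mul_zpow, h4, inv_zpow, h2, inv_one, one_mul]
  · have h1 : (⟨t * b, mul_mem htS h.bS⟩ : S) ^ 2 = 1 := by
      apply Subtype.ext
      show (t * b) ^ 2 = 1
      calc (t * b) ^ 2 = t * (b * t * b⁻¹) * (b * b) := by rw [pow_two]; group
        _ = (t * t) * (z * z) := by rw [h.btb, h.sit.qr.bb]; group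
        _ = 1 := by rw [VD.tt h.sit h.v, h.sit.qr.zz, one_mul]
    have h2 : (⟨t * b, mul_mem htS h.bS⟩ : S) ≠ 1 := by
      intro h3
      have h4 : t * b = 1 := congrArg Subtype.val h3
      apply h.b_out
      have h5 : b = t⁻¹ := (inv_eq_of_mul_eq_one_right h4).symm
      rw [h5, h.td]
      exact inv_mem (Subgroup.mem_sup_right (Subgroup.pow_mem _ (Subgroup.mem_zpowers d) _))
    exact orderOf_eq_prime h1 h2
  · apply Subtype.ext
    show t * b * d * (t * b)⁻¹ = d * a⁻¹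
    have htd : t * (d * a⁻¹) = d * a⁻¹ * t := by
      have h1 : Commute t d := by rw [h.td]; exact (Commute.refl d).pow_left _
      have h2 : Commute t a := by rw [h.td]; exact (show Commute d a from h.da).pow_left _
      exact (h1.mul_right h2.inv_right).eq
    calc t * b * d * (t * b)⁻¹ = t * (b * d) * b⁻¹ * t⁻¹ := by group
      _ = t * (d * a⁻¹) * t⁻¹ := by rw [h.bd]; group
      _ = d * a⁻¹ := by rw [htd, mul_inv_cancel_right]

theorem CaseA.b'M {x : Ω} (hx : x ∈ Subgroup.zpowers a ⊔ Subgroup.zpowers d) :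
    b⁻¹ * x * b ∈ Subgroup.zpowers a ⊔ Subgroup.zpowers d := by
  have h1 : b⁻¹ * x * b = (b * b)⁻¹ * (b * x * b⁻¹) * (b * b) := by group
  rw [h1]
  exact Subgroup.mul_mem _ (Subgroup.mul_mem _ (Subgroup.inv_mem _ h.bbM) (h.bM hx)) h.bbM

theorem CaseA.tinv : t⁻¹ = t := inv_eq_of_mul_eq_one_right (VD.tt h.sit h.v)

/-- if `w ∈ K` inverts `k` then `b w ∈ C_S(t)`. -/
theorem CaseA.bw_CS {w : Ω} (hw : w ∈ centralizerIn S R) (hw1 : w * k = k⁻¹ * w) : b * w ∈ CS S t := by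
  have hwS := (mem_K.mp hw).1
  refine mem_CS.mpr ⟨mul_mem h.bS hwS, ?_⟩
  have h1 : w * c * w⁻¹ = c⁻¹ := by
    obtain ⟨n, hn⟩ := h.ck
    change k ^ n = c at hn
    have h2 : w * k * w⁻¹ = k⁻¹ := by rw [hw1, mul_inv_cancel_right]
    rw [← hn, ← conj_zpow, h2, inv_zpow]
  have h2 : w * r * w⁻¹ = r := by rw [(mem_K.mp hw).2 r h.sit.qr.rR, mul_inv_cancel_right]
  have h3 : b * r * b⁻¹ = r⁻¹ := by rw [h.sit.qr.br, mul_inv_cancel_right]
  have h4 : b * c⁻¹ * b⁻¹ = c⁻¹ := by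
    have h5 : b * c * b⁻¹ = c := by rw [← (mem_K.mp h.cK).2 b h.sit.qr.bR, mul_inv_cancel_right]
    calc b * c⁻¹ * b⁻¹ = (b * c * b⁻¹)⁻¹ := by group
      _ = c⁻¹ := by rw [h5]
  have h6 : b * w * t * (b * w)⁻¹ = t := by
    calc b * w * t * (b * w)⁻¹ = b * ((w * r * w⁻¹) * (w * c * w⁻¹)) * b⁻¹ := by rw [h.tc]; group
      _ = (b * r * b⁻¹) * (b * c⁻¹ * b⁻¹) := by rw [h1, h2]; group
      _ = (c * r)⁻¹ := by rw [h3, h4]; group
      _ = t := by rw [(mem_K.mp h.cK).2 r h.sit.qr.rR, ← h.tc, h.tinv]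
  exact mul_inv_eq_iff_eq_mul.mp h6

/-- `w` normalizes `M`. -/
theorem CaseA.wM {w : Ω} (hw : w ∈ centralizerIn S R) (hw1 : w * k = k⁻¹ * w) {x : Ω}
    (hx : x ∈ Subgroup.zpowers a ⊔ Subgroup.zpowers d) : w * x * w⁻¹ ∈ Subgroup.zpowers a ⊔ Subgroup.zpowers d := by
  obtain ⟨i, hi⟩ := h.pow _ (h.bw_CS hw hw1)
  have h1 : w * x * w⁻¹ = b⁻¹ * ((b * w) * x * (b * w)⁻¹) * b := by group
  rw [h1, hi x hx]
  exact h.b'M (Subgroup.pow_mem _ hx i)

/-- (A8) if `K` is quaternion then we have `CaseA8`. -/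
theorem CaseA.a8 {w : Ω} (hw : w ∈ centralizerIn S R) (hw1 : w * k = k⁻¹ * w) (hw2 : w * w = z) (hw3 : w ∉ Subgroup.zpowers k)
    (hw4 : ∀ x ∈ centralizerIn S R, ∃ i : ℕ, x = k ^ i ∨ x = w * k ^ i)
    (hg : S = R ⊔ centralizerIn S R ⊔ (Subgroup.zpowers a ⊔ Subgroup.zpowers d)) :
    CaseA8 F R a b z r m t c d k w β := by
  have hwM : ∀ x ∈ Subgroup.zpowers a ⊔ Subgroup.zpowers d, w * x * w⁻¹ ∈ Subgroup.zpowers a ⊔ Subgroup.zpowers d :=
    fun x hx => h.wM hw hw1 hx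
  have hwb : w * b = b * w := (mem_K.mp hw).2 b h.sit.qr.bR
  have h1 : ∀ x ∈ two (Subgroup.zpowers a ⊔ Subgroup.zpowers d) b (fun _ => h.bM) h.bbM,
      w * x * w⁻¹ ∈ two (Subgroup.zpowers a ⊔ Subgroup.zpowers d) b (fun _ => h.bM) h.bbM := by
    rintro x (hx | ⟨y, hy, rfl⟩)
    · exact le_two (hwM x hx)
    · right
      refine ⟨w * y * w⁻¹, hwM y hy, ?_⟩
      calc w * (y * b) * w⁻¹ = w * y * w⁻¹ * (w * b) * w⁻¹ := by group
        _ = w * y * w⁻¹ * b := by rw [hwb]; group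
  have h2 : w * w ∈ two (Subgroup.zpowers a ⊔ Subgroup.zpowers d) b (fun _ => h.bM) h.bbM := by
    rw [hw2]; exact le_two h.zM5
  have hS : S ≤ two (two (Subgroup.zpowers a ⊔ Subgroup.zpowers d) b (fun _ => h.bM) h.bbM) w h1 h2 := by
    refine hg.le.trans (sup_le (sup_le (h.R_le.trans le_two) ?_) (le_two.trans le_two))
    intro x hx
    obtain ⟨i, rfl | rfl⟩ := hw4 x hx
    · exact le_two (le_two (Subgroup.pow_mem _ h.kM i))
    · exact mul_mem self_mem_two (le_two (le_two (Subgroup.pow_mem _ h.kM i)))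
  refine { h with wK := hw, wk := hw1, ww := hw2, wn := hw3, Kgen := hw4, gen := ?_ }
  intro s hs
  rcases hS hs with (hx | ⟨y, hy, rfl⟩) | ⟨x, hx | ⟨y, hy, rfl⟩, rfl⟩
  · exact ⟨s, hx, Or.inl rfl⟩
  · exact ⟨y, hy, Or.inr (Or.inl rfl)⟩
  · exact ⟨x, hx, Or.inr (Or.inr (Or.inl rfl))⟩
  · exact ⟨y, hy, Or.inr (Or.inr (Or.inr (by rw [mul_assoc])))⟩

end

/-- (A7) + (A8): the dichotomy. -/
theorem CaseA.cases (h : CaseA F R a b z r m t c d k β)
    (hg : S = R ⊔ centralizerIn S R ⊔ (Subgroup.zpowers a ⊔ Subgroup.zpowers d)) :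
    (IsWreathed ↥S ∧ Nat.card S = 2 ^ (2 * m + 1)) ∨ ∃ w, CaseA8 F R a b z r m t c d k w β := by
  rcases h.K with hK | ⟨w, hw, hw1, hw2, hw3, hw4⟩
  · exact Or.inl (h.wreathed hK hg)
  · exact Or.inr ⟨w, h.a8 hw hw1 hw2 hw3 hw4 hg⟩

end Cfsg.Agent.H784.Q
end

-- part: H782/Q/Alg
section
/-! # S5176, section 2 (case B): the algebra of an involution of type SD (plan: tools/plans/S5176.md) -/
set_option autoImplicit false
set_option linter.unusedSectionVars false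

open Cfsg Cfsg.FusionSystem Cfsg.Agent.H752 Cfsg.Agent.H784.SF Cfsg.Agent.H784.Q

universe u

namespace Cfsg.Agent.H782.QB

variable {Ω : Type u} [Group Ω] {S : Subgroup Ω} {R : Subgroup Ω} {a b z r : Ω} {m : ℕ}

/-- the data of an involution `t` of type SD. -/
structure SD (R : Subgroup Ω) (a b z r : Ω) (m : ℕ) (t : Ω) : Prop where
  q : QR R a b z r m
  ty : TySD R a b z t
  tt : t * t = 1

namespace SD

variable {t : Ω} (d : SD R a b z r m t)
include d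

theorem tinv : t⁻¹ = t := inv_eq_of_mul_eq_one_right d.tt

theorem ta_zpow (i : ℤ) : t * a ^ i = (a ^ i)⁻¹ * t := by
  have h1 : t * a * t⁻¹ = a⁻¹ := by rw [d.ty.ta, mul_inv_cancel_right]
  have h2 : t * a ^ i * t⁻¹ = (a ^ i)⁻¹ := by rw [← conj_zpow, h1, inv_zpow]
  rw [← h2]; group

theorem ta_pow (i : ℕ) : t * a ^ i = (a ^ i)⁻¹ * t := by
  have := d.ta_zpow i
  rwa [zpow_natCast] at this

theorem tz : t * z = z * t := by
  have h1 := d.ta_pow (2 ^ (m - 1))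
  rwa [← d.q.hz, d.q.zinv] at h1

theorem tr : t * r = r⁻¹ * t := by
  have h1 := d.ta_pow (2 ^ (m - 2))
  rwa [← d.q.hr] at h1

/-- `y = bt` -/
theorem exj : ∃ j : ℕ, Odd j ∧ t * b * t = b * a ^ j := by
  obtain ⟨j, hj, h⟩ := d.ty.ex
  exact ⟨j, hj, by rwa [d.tinv] at h⟩

theorem yy {j : ℕ} (hj : t * b * t = b * a ^ j) : (b * t) * (b * t) = z * a ^ j := by
  have h1 : (b * t) * (b * t) = b * (t * b * t) := by group
  rw [h1, hj, ← mul_assoc, d.q.bb]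

theorem zj {j : ℕ} (hj : Odd j) : z ^ j = z := by
  obtain ⟨l, rfl⟩ := hj
  rw [pow_succ, pow_mul, pow_two, d.q.zz, one_pow, one_mul]

theorem cza (i : ℕ) : z * a ^ i = a ^ i * z := (Commute.pow_right (show Commute z a from d.q.az) i)

theorem y_pow_half : (b * t) ^ 2 ^ m = z := by
  obtain ⟨j, hjo, hj⟩ := d.exj
  have hm := d.q.m3
  obtain ⟨n, rfl⟩ : ∃ n, m = n + 2 := ⟨m - 2, by omega⟩
  have h1 : (b * t) ^ 2 ^ (n + 2) = ((b * t) * (b * t)) ^ 2 ^ (n + 1) := by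
    rw [← pow_two, ← pow_mul, ← pow_succ']
  rw [h1, d.yy hj, (show Commute z (a ^ j) from d.cza j).mul_pow]
  have h2 : z ^ 2 ^ (n + 1) = 1 := by rw [pow_succ', pow_mul, pow_two, d.q.zz, one_pow]
  have hz : a ^ 2 ^ (n + 1) = z := d.q.hz.symm
  rw [h2, one_mul, ← pow_mul, mul_comm, pow_mul, hz, d.zj hjo]

theorem orderOf_y : orderOf (b * t) = 2 ^ (m + 1) := by
  refine orderOf_eq_prime_pow ?_ ?_
  · rw [d.y_pow_half]; exact d.q.z_ne
  · rw [pow_succ, pow_mul, d.y_pow_half, pow_two, d.q.zz]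

theorem z_mem : z ∈ Subgroup.zpowers (b * t) := by
  rw [← d.y_pow_half]; exact Subgroup.npow_mem_zpowers _ _

theorem aj_mem {j : ℕ} (hj : t * b * t = b * a ^ j) : a ^ j ∈ Subgroup.zpowers (b * t) := by
  have h1 : a ^ j = z * ((b * t) * (b * t)) := by
    rw [d.yy hj, ← mul_assoc, d.q.zz, one_mul]
  rw [h1]
  exact mul_mem d.z_mem (mul_mem (Subgroup.mem_zpowers _) (Subgroup.mem_zpowers _))

/-- an odd power of `a` generates `⟨a⟩`. -/
theorem a_of_odd {j : ℕ} (hj : Odd j) : a ∈ Subgroup.zpowers (a ^ j) := by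
  have h1 : Nat.Coprime j (orderOf a) := by rw [d.q.oa]; exact Nat.Coprime.pow_right _ (Nat.coprime_two_right.mpr hj)
  obtain ⟨n, hn⟩ := exists_pow_eq_self_of_coprime h1
  exact Subgroup.mem_zpowers_iff.mpr ⟨n, by rw [zpow_natCast]; exact hn⟩

theorem a_mem : a ∈ Subgroup.zpowers (b * t) := by
  obtain ⟨j, hjo, hj⟩ := d.exj
  have h1 := d.a_of_odd hjo
  exact (Subgroup.zpowers_le.mpr (d.aj_mem hj)) h1

theorem A_le : Subgroup.zpowers a ≤ Subgroup.zpowers (b * t) := Subgroup.zpowers_le.mpr d.a_mem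

/-- `t` inverts `y = bt` up to `z`. -/
theorem ty_conj : t * (b * t) * t = (b * t)⁻¹ * z := by
  obtain ⟨j, hjo, hj⟩ := d.exj
  have h1 := d.yy hj
  have h2 : t * (b * t) * t = (t * b * t) * t := by group
  have h3 : a ^ j * t = t * (a ^ j)⁻¹ := by
    have := d.ta_zpow (-(j : ℤ))
    rw [zpow_neg, zpow_natCast, inv_inv] at this
    exact this.symm
  rw [h2, hj, mul_assoc, h3, ← mul_assoc, eq_inv_mul_iff_mul_eq, ← mul_assoc, h1, mul_assoc, mul_inv_cancel, mul_one]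

end SD

end Cfsg.Agent.H782.QB
end

-- part: H782/Q/Act
section
/-! # S5176, section 2 (case B): actions on `⟨a⟩` and `⟨bt⟩` -/
set_option autoImplicit false
set_option linter.unusedSectionVars false

open Cfsg Cfsg.FusionSystem Cfsg.Agent.H752 Cfsg.Agent.H784.SF Cfsg.Agent.H784.Q

universe u

namespace Cfsg.Agent.H782.QB

variable {Ω : Type u} [Group Ω] {S : Subgroup Ω} [Finite S] {F : FusionSystem S} {R : Subgroup Ω} {a b z r : Ω} {m : ℕ}

theorem pos_a (q : QR R a b z r m) : IsOfFinOrder a := by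
  rw [← orderOf_pos_iff, q.oa]; positivity

/-- natural exponents. -/
theorem nat_exp {g x : Ω} (hg : IsOfFinOrder g) (hx : x ∈ Subgroup.zpowers g) : ∃ n : ℕ, x = g ^ n := by
  classical
  rw [hg.mem_zpowers_iff_mem_range_orderOf] at hx
  obtain ⟨i, -, hi⟩ := Finset.mem_image.mp hx
  exact ⟨i, hi.symm⟩

/-- elements commuting with `a` and `b` centralize `R`. -/
theorem cen_of (q : QR R a b z r m) {s : Ω} (hsS : s ∈ S) (ha : s * a = a * s) (hb : s * b = b * s) :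
    s ∈ centralizerIn S R := by
  refine mem_centK.mpr ⟨hsS, fun x hx => ?_⟩
  have hca : Commute s a := ha
  have hcb : Commute s b := hb
  obtain ⟨i, rfl | rfl⟩ := q.gen x hx
  · exact (hca.pow_right i).eq
  · exact (hcb.mul_right (hca.pow_right i)).eq

section sit
variable (h : Sit F R a b z r m)
include h

/-- `⟨a⟩` is normal in `S`. -/
theorem normA {s : Ω} (hs : s ∈ S) {x : Ω} (hx : x ∈ Subgroup.zpowers a) : s * x * s⁻¹ ∈ Subgroup.zpowers a := by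
  have q := h.qr
  have h1 : s * a * s⁻¹ ∈ Subgroup.zpowers a := by
    by_contra hn
    have h2 := q.sq_out (h.Rn s hs a q.aR) hn
    have h3 : a * a = z := by
      have h4 : s * a * s⁻¹ * (s * a * s⁻¹) = s * (a * a) * s⁻¹ := by group
      rw [h4, mul_inv_eq_iff_eq_mul, ← h.z_centr s hs] at h2
      exact mul_left_cancel h2
    have h5 : a ^ 4 = 1 := by
      have : a ^ 4 = (a * a) * (a * a) := by simp [pow_succ, mul_assoc]
      rw [this, h3, q.zz]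
    have h6 := orderOf_dvd_of_pow_eq_one h5
    rw [q.oa] at h6
    have h7 : 2 ^ m ∣ 2 ^ 2 := h6
    have h8 := (Nat.pow_dvd_pow_iff_le_right (by norm_num : 1 < 2)).mp h7
    have := q.m3
    omega
  obtain ⟨i, rfl⟩ := hx
  change s * a ^ i * s⁻¹ ∈ _
  rw [← conj_zpow]
  exact Subgroup.zpow_mem _ h1 i

theorem conj_a {s : Ω} (hs : s ∈ S) : ∃ i : ℕ, s * a * s⁻¹ = a ^ i :=
  nat_exp (pos_a h.qr) (normA h hs (Subgroup.mem_zpowers a))

theorem conj_b {s : Ω} (hs : s ∈ S) : ∃ i : ℕ, s * b * s⁻¹ = b * a ^ i := by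
  have q := h.qr
  refine q.out_eq (h.Rn s hs b q.bR) fun hn => ?_
  have h1 := normA h (inv_mem hs) hn
  have h2 : s⁻¹ * (s * b * s⁻¹) * s⁻¹⁻¹ = b := by group
  rw [h2] at h1
  exact q.bA h1

/-- (B0): an element inverting `⟨a⟩` is not a square. -/
theorem not_sq {s t : Ω} (hs : s ∈ S) (ht : t * a = a⁻¹ * t) : s * s ≠ t := by
  rintro rfl
  have q := h.qr
  obtain ⟨i, hi⟩ := conj_a h hs
  have h1 : (s * s) * a * (s * s)⁻¹ = a ^ (i * i) := by
    have h2 : (s * s) * a * (s * s)⁻¹ = s * (s * a * s⁻¹) * s⁻¹ := by group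
    rw [h2, hi, ← conj_pow, hi, pow_mul]
  rw [ht, mul_inv_cancel_right] at h1
  have h3 : a ^ (i * i + 1) = 1 := by rw [pow_succ, ← h1, inv_mul_cancel]
  have h4 := orderOf_dvd_of_pow_eq_one h3
  rw [q.oa] at h4
  have h5 : 4 ∣ i * i + 1 := by
    refine dvd_trans ?_ h4
    have : (4 : ℕ) = 2 ^ 2 := by norm_num
    rw [this]
    exact pow_dvd_pow 2 (by have := q.m3; omega)
  have h6 : (i * i + 1) % 4 = 0 := Nat.mod_eq_zero_of_dvd h5
  have h7 : i % 4 = 0 ∨ i % 4 = 1 ∨ i % 4 = 2 ∨ i % 4 = 3 := by omega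
  rw [Nat.add_mod, Nat.mul_mod] at h6
  rcases h7 with h7 | h7 | h7 | h7 <;> rw [h7] at h6 <;> norm_num at h6

variable {t : Ω} (d : SD R a b z r m t)
include d

/-- elements commuting with `t` normalize `⟨bt⟩`. -/
theorem conj_y {s : Ω} (hs : s ∈ S) (hst : s * t = t * s) : ∃ n : ℕ, s * (b * t) * s⁻¹ = (b * t) ^ n := by
  have hfin : IsOfFinOrder (b * t) := by rw [← orderOf_pos_iff, d.orderOf_y]; positivity
  refine nat_exp hfin ?_
  obtain ⟨i, hi⟩ := conj_b h hs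
  have h1 : s * (b * t) * s⁻¹ = (b * t) * (a ^ i)⁻¹ := by
    have h2 : s * (b * t) * s⁻¹ = (s * b * s⁻¹) * (s * t * s⁻¹) := by group
    have h3 : s * t * s⁻¹ = t := by rw [hst, mul_inv_cancel_right]
    have h4 : a ^ i * t = t * (a ^ i)⁻¹ := by
      have := d.ta_zpow (-(i : ℤ))
      rw [zpow_neg, zpow_natCast, inv_inv] at this
      exact this.symm
    rw [h2, h3, hi, mul_assoc, h4, ← mul_assoc]
  rw [h1]
  exact mul_mem (Subgroup.mem_zpowers _) (inv_mem (pow_mem d.a_mem i))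

omit h in
/-- elements commuting with `t` and `bt` are in `K`. -/
theorem mem_K_of {s : Ω} (hs : s ∈ S) (hst : s * t = t * s) (hy : s * (b * t) = (b * t) * s) :
    s ∈ centralizerIn S R := by
  have hcy : Commute s (b * t) := hy
  have hct : Commute s t := hst
  obtain ⟨i, hi⟩ := Subgroup.mem_zpowers_iff.mp d.a_mem
  have hca : Commute s a := by rw [← hi]; exact hcy.zpow_right i
  have hb : b = (b * t) * t⁻¹ := by group
  have hcb : Commute s b := by rw [hb]; exact hcy.mul_right hct.inv_right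
  exact cen_of d.q hs hca hcb

theorem comm_mem_K {s s' : Ω} (hs : s ∈ CS S t) (hs' : s' ∈ CS S t) : s * s' * s⁻¹ * s'⁻¹ ∈ centralizerIn S R := by
  rw [mem_cent] at hs hs'
  have hct : Commute s t := hs.2
  have hct' : Commute s' t := hs'.2
  have hc : Commute (s * s' * s⁻¹ * s'⁻¹) t := ((hct.mul_left hct').mul_left hct.inv_left).mul_left hct'.inv_left
  refine mem_K_of d (mul_mem (mul_mem (mul_mem hs.1 hs'.1) (inv_mem hs.1)) (inv_mem hs'.1)) hc ?_
  obtain ⟨n, hn⟩ := conj_y h d hs.1 hs.2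
  obtain ⟨n', hn'⟩ := conj_y h d hs'.1 hs'.2
  generalize hy : b * t = y at hn hn' ⊢
  -- `s s' y (s s')⁻¹ = s' s y (s' s)⁻¹`
  have h1 : (s * s') * y * (s * s')⁻¹ = y ^ (n * n') := by
    have h2 : (s * s') * y * (s * s')⁻¹ = s * (s' * y * s'⁻¹) * s⁻¹ := by group
    rw [h2, hn', ← conj_pow, hn, pow_mul]
  have h1' : (s' * s) * y * (s' * s)⁻¹ = y ^ (n * n') := by
    have h2 : (s' * s) * y * (s' * s)⁻¹ = s' * (s * y * s⁻¹) * s'⁻¹ := by group
    rw [h2, hn, ← conj_pow, hn', mul_comm n n', pow_mul]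
  have h3 : (s * s') * y * (s * s')⁻¹ = (s' * s) * y * (s' * s)⁻¹ := h1.trans h1'.symm
  -- conjugate of `y` by `(s' s)⁻¹ (s s')` is `y`; we need it for `s s' s⁻¹ s'⁻¹ = (s s') (s' s)⁻¹`
  have h4 : s * s' * s⁻¹ * s'⁻¹ = (s * s') * (s' * s)⁻¹ := by group
  obtain ⟨k, hk⟩ : ∃ k : ℕ, (s' * s)⁻¹ * y * (s' * s) = y ^ k := by
    obtain ⟨k, hk⟩ := conj_y h d (inv_mem (mul_mem hs'.1 hs.1)) (hct'.mul_left hct).inv_left
    rw [hy, inv_inv] at hk
    exact ⟨k, hk⟩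
  have h5 : ((s * s') * (s' * s)⁻¹) * y * ((s * s') * (s' * s)⁻¹)⁻¹ = y := by
    have h6 : ((s * s') * (s' * s)⁻¹) * y * ((s * s') * (s' * s)⁻¹)⁻¹ =
        (s * s') * ((s' * s)⁻¹ * y * (s' * s)) * (s * s')⁻¹ := by group
    rw [h6, hk, ← conj_pow, h3, conj_pow, ← hk]
    group
  rw [h4]
  exact mul_inv_eq_iff_eq_mul.mp h5

/-- `w` acts on `R` as `r`. -/
def Ar (a b z w : Ω) : Prop := w * a = a * w ∧ w * b * w⁻¹ = b * z

/-- the involutions of `C_S(t)` -/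
theorem type4 (htS : t ∈ S) {w : Ω} (hw : w ∈ CS S t) (hww : w * w = 1) :
    w ∈ centralizerIn S R ∨ w * t ∈ centralizerIn S R ∨ Ar a b z w ∨ Ar a b z (w * t) := by
  have q := h.qr
  rw [mem_cent] at hw
  have hwinv : w⁻¹ = w := inv_eq_of_mul_eq_one_right hww
  have hct : Commute w t := hw.2
  obtain ⟨n, hn⟩ := conj_y h d hw.1 hw.2
  obtain ⟨j, hjo, hj⟩ := d.exj
  have hyy := d.yy hj
  have hty := d.ty_conj
  have hyt : (b * t) * t = b := by rw [mul_assoc, d.tt, mul_one]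
  have hzy : z * (b * t) = (b * t) * z := by
    obtain ⟨k, hk⟩ := Subgroup.mem_zpowers_iff.mp d.z_mem
    rw [← hk]; exact ((Commute.refl (b * t)).zpow_right k).symm
  have ho := d.orderOf_y
  have hhalf := d.y_pow_half
  have hm := q.m3
  have haj := d.a_of_odd hjo
  -- the two kinds of elements up to `t`
  have kA : ∀ v ∈ S, v * t = t * v → v * (b * t) * v⁻¹ = b * t → v ∈ centralizerIn S R := fun v hv hvt hvy =>
    mem_K_of d hv hvt (mul_inv_eq_iff_eq_mul.mp hvy)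
  have kB : ∀ v ∈ S, v * t = t * v → v * (b * t) * v⁻¹ = (b * t) * z → Ar a b z v := by
    intro v hv hvt hvy
    have hcz : Commute v z := h.z_centr v hv
    have hct : Commute v t := hvt
    have h1 : Commute v ((b * t) * (b * t)) := by
      have h2 : v * ((b * t) * (b * t)) * v⁻¹ = (v * (b * t) * v⁻¹) * (v * (b * t) * v⁻¹) := by group
      rw [hvy] at h2
      have h3 : b * t * z * (b * t * z) = (b * t) * (b * t) := by
        have : b * t * z * (b * t * z) = b * t * (z * (b * t)) * z := by group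
        rw [this, hzy]
        have : b * t * (b * t * z) * z = (b * t) * (b * t) * (z * z) := by group
        rw [this, q.zz, mul_one]
      rw [h3] at h2
      exact mul_inv_eq_iff_eq_mul.mp h2
    have h2 : Commute v (a ^ j) := by
      have h3 : a ^ j = z * ((b * t) * (b * t)) := by rw [hyy, ← mul_assoc, q.zz, one_mul]
      rw [h3]; exact hcz.mul_right h1
    obtain ⟨k, hk⟩ := Subgroup.mem_zpowers_iff.mp haj
    refine ⟨by rw [← hk]; exact h2.zpow_right k, ?_⟩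
    have h4 : v * b * v⁻¹ = (v * (b * t) * v⁻¹) * (v * t⁻¹ * v⁻¹) := by group
    have h5 : v * t⁻¹ * v⁻¹ = t := by rw [d.tinv, hvt, mul_inv_cancel_right]
    rw [h4, h5, hvy, mul_assoc (b * t), ← d.tz, ← mul_assoc, hyt]
  have hwt : w * t * t = t * (w * t) := by rw [← mul_assoc, ← hw.2]
  have hwtS : w * t ∈ S := mul_mem hw.1 htS
  -- the exponent
  have h1 : (b * t) ^ (n * n) = (b * t) ^ 1 := by
    have h2 : w * (w * (b * t) * w⁻¹) * w⁻¹ = (b * t) ^ (n * n) := by rw [hn, ← conj_pow, hn, pow_mul]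
    rw [← h2, pow_one]
    have h3 : w * (w * (b * t) * w⁻¹) * w⁻¹ = (w * w) * (b * t) * (w * w)⁻¹ := by group
    rw [h3, hww, one_mul, inv_one, mul_one]
  rw [pow_eq_pow_iff_modEq, ho] at h1
  have hodd : Odd n := by
    have h2 : n * n ≡ 1 [MOD 2] := h1.of_dvd (dvd_pow_self 2 (by omega))
    have h3 : (n * n) % 2 = 1 := h2
    have h4 : n % 2 = 0 ∨ n % 2 = 1 := by omega
    rcases h4 with h4 | h4
    · rw [Nat.mul_mod, h4] at h3; norm_num at h3
    · exact Nat.odd_iff.mpr h4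
  obtain ⟨l, rfl⟩ := hodd
  have h2 : 2 ^ (m - 1) ∣ l * (l + 1) := by
    have h3 : 2 ^ (m + 1) ∣ (2 * l + 1) * (2 * l + 1) - 1 := (Nat.modEq_iff_dvd' (by nlinarith)).mp h1.symm
    have h4 : (2 * l + 1) * (2 * l + 1) - 1 = 4 * (l * (l + 1)) := by
      have : (2 * l + 1) * (2 * l + 1) = 4 * (l * (l + 1)) + 1 := by ring
      omega
    rw [h4] at h3
    have h5 : 2 ^ (m + 1) = 4 * 2 ^ (m - 1) := by
      have : (4 : ℕ) = 2 ^ 2 := by norm_num
      rw [this, ← pow_add]; congr 1; omega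
    rw [h5] at h3
    exact Nat.dvd_of_mul_dvd_mul_left (by norm_num) h3
  have hcop : Nat.Coprime l (l + 1) := by simp
  have hpow : ∀ k : ℕ, z ^ k = 1 ∨ z ^ k = z := by
    intro k
    rcases Nat.even_or_odd' k with ⟨e, rfl | rfl⟩
    · left; rw [pow_mul, pow_two, q.zz, one_pow]
    · right; rw [pow_succ, pow_mul, pow_two, q.zz, one_pow, one_mul]
  have h22 : 2 * 2 ^ (m - 1) = 2 ^ m := by rw [← pow_succ']; congr 1; omega
  rcases (hcop.isPrimePow_dvd_mul (Nat.prime_two.isPrimePow.pow (by omega))).mp h2 with ⟨k, hk⟩ | ⟨k, hk⟩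
  · -- `w y w⁻¹ = y` or `y z`
    have h3 : (b * t) ^ (2 * l + 1) = (b * t) * z ^ k := by
      rw [hk, pow_succ', ← mul_assoc, h22, pow_mul, hhalf]
    rw [h3] at hn
    rcases hpow k with h4 | h4 <;> rw [h4] at hn
    · exact Or.inl (kA w hw.1 hw.2 (by rw [hn, mul_one]))
    · exact Or.inr (Or.inr (Or.inl (kB w hw.1 hw.2 hn)))
  · have h3 : (b * t) ^ (2 * l + 1) = (b * t)⁻¹ * z ^ k := by
      rw [eq_inv_mul_iff_mul_eq, ← pow_succ', show 2 * l + 1 + 1 = 2 * (l + 1) from by ring, hk, ← mul_assoc, h22, pow_mul, hhalf]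
    rw [h3] at hn
    have hzi : z⁻¹ = z := q.zinv
    have hwz : w * z * w⁻¹ = z := by rw [h.z_centr w hw.1, mul_inv_cancel_right]
    have h5 : (w * t) * (b * t) * (w * t)⁻¹ = (w * (b * t) * w⁻¹)⁻¹ * z := by
      have h6 : (w * t) * (b * t) * (w * t)⁻¹ = w * (t * (b * t) * t⁻¹) * w⁻¹ := by group
      rw [h6, d.tinv, hty]
      have h7 : w * ((b * t)⁻¹ * z) * w⁻¹ = (w * (b * t) * w⁻¹)⁻¹ * (w * z * w⁻¹) := by group
      rw [h7, hwz]
    rw [hn] at h5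
    rcases hpow k with h4 | h4 <;> rw [h4] at h5
    · refine Or.inr (Or.inr (Or.inr (kB _ hwtS hwt ?_)))
      rw [h5, mul_one, inv_inv]
    · refine Or.inr (Or.inl (kA _ hwtS hwt ?_))
      rw [h5, mul_inv_rev, inv_inv, hzi, hzy, mul_assoc, q.zz, mul_one]

end sit

end Cfsg.Agent.H782.QB
end

-- part: H782/Q/B1
section
/-! # S5176, section 2 (case B): (B1) `C_S(t)` is abelian, (B2) `C_K(t) = ⟨z⟩` -/
set_option autoImplicit false
set_option linter.unusedSectionVars false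

open Cfsg Cfsg.FusionSystem Cfsg.Agent.H752 Cfsg.Agent.H784.SF Cfsg.Agent.H784.Q

universe u

namespace Cfsg.Agent.H782.QB

variable {Ω : Type u} [Group Ω] {S : Subgroup Ω} [Finite S] {F : FusionSystem S} {R : Subgroup Ω} {a b z r : Ω} {m : ℕ}

/-- powers that are involutions. -/
theorem pow_invol (hS : IsPGroup 2 S) {x : Ω} (hx : x ∈ S) (h1 : x ≠ 1) :
    ∃ n : ℕ, x ^ 2 ^ n ≠ 1 ∧ x ^ 2 ^ n * x ^ 2 ^ n = 1 := by
  obtain ⟨j, hj⟩ := hS ⟨x, hx⟩
  have hj' : x ^ 2 ^ j = 1 := congrArg Subtype.val hj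
  clear hj
  induction j with
  | zero => exact absurd (by simpa using hj') h1
  | succ j ih =>
    by_cases h : x ^ 2 ^ j = 1
    · exact ih h
    · refine ⟨j, h, ?_⟩
      rw [← pow_two, ← pow_mul, ← pow_succ]
      exact hj'

section sit
variable (h : Sit F R a b z r m)
include h

/-- an involution acting on `R` with `⟨z⟩` as the fixed points is of type SD. -/
theorem sd_of_fixed {t : Ω} (ht : t ∈ S) (htt : t * t = 1) (hcen : ∀ x ∈ R, t * x = x * t → x = 1 ∨ x = z) :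
    TySD R a b z t := by
  have q := h.qr
  have htinv : t⁻¹ = t := inv_eq_of_mul_eq_one_right htt
  have hzA : z ∈ Subgroup.zpowers a := by rw [q.hz]; exact Subgroup.npow_mem_zpowers _ _
  have hAR : Subgroup.zpowers a ≤ R := Subgroup.zpowers_le.mpr q.aR
  obtain ⟨j, hj⟩ := conj_b h ht
  rw [htinv] at hj
  have hout : ∀ i : ℕ, t * (b * a ^ i) ≠ (b * a ^ i) * t := by
    intro i hi
    rcases hcen _ (mul_mem q.bR (pow_mem q.aR i)) hi with h1 | h1
    · exact q.bA' i (h1 ▸ one_mem _)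
    · exact q.bA' i (h1 ▸ hzA)
  -- `a^t = a⁻¹` or `a⁻¹ z`
  have h1 : t * a * t ∈ Subgroup.zpowers a := by
    have := normA h ht (Subgroup.mem_zpowers a); rwa [htinv] at this
  have hcomm : Commute a (t * a * t) := by
    obtain ⟨k, hk⟩ := Subgroup.mem_zpowers_iff.mp h1
    rw [← hk]; exact (Commute.refl a).zpow_right k
  have h2 : t * (a * (t * a * t)) = a * (t * a * t) * t := by
    have h3 : t * (a * (t * a * t)) = (t * a * t) * (a * (t)) * 1 := by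
      rw [mul_one]; group
    rw [h3, mul_one, ← mul_assoc, ← hcomm.eq]
  have h3 := hcen _ (mul_mem q.aR (hAR h1)) h2
  have h4 : t * a * t = a⁻¹ ∨ t * a * t = a⁻¹ * z := by
    rcases h3 with h3 | h3
    · left; rw [eq_inv_iff_mul_eq_one, ← hcomm.eq]; exact h3
    · right; rw [eq_inv_mul_iff_mul_eq]; exact h3
  have hbt : ∀ i : ℕ, t * (b * a ^ i) * t = b * a ^ j * (t * a * t) ^ i := by
    intro i
    have h5 : t * (b * a ^ i) * t = (t * b * t) * (t * a ^ i * t⁻¹) := by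
      rw [← mul_assoc, ← mul_assoc, ← mul_assoc]
      rw [mul_assoc (t * b) t t, htt, mul_one, htinv]
    rw [h5, hj, ← conj_pow, htinv]
  have key : ∀ i : ℕ, t * (b * a ^ i) * t = b * a ^ i → False := by
    intro i hi
    apply hout i
    calc t * (b * a ^ i) = (t * (b * a ^ i) * t) * t := by rw [mul_assoc (t * (b * a ^ i)), htt, mul_one]
      _ = _ := by rw [hi]
  rcases h4 with h4 | h4
  · refine ⟨?_, hcen, j, ?_, by rw [htinv]; exact hj⟩
    · rw [← h4, mul_assoc (t * a) t t, htt, mul_one]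
    · by_contra hne
      rw [Nat.not_odd_iff_even] at hne
      obtain ⟨l, rfl⟩ := hne
      apply key l
      rw [hbt, h4, mul_assoc, inv_pow, pow_add, mul_assoc, mul_inv_cancel, mul_one]
  · exfalso
    have hm := q.m3
    have haz : Commute a⁻¹ z := (show Commute z a from q.az).symm.inv_left
    have hpow : ∀ i : ℕ, (a⁻¹ * z) ^ i = (a ^ i)⁻¹ * z ^ i := fun i => by rw [haz.mul_pow, inv_pow]
    have hcza : ∀ i : ℕ, Commute (a ^ i) z := fun i => ((show Commute a z from q.az.symm)).pow_left i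
    -- `j` is even
    have h5 : z ^ j = 1 := by
      have h6 : t * (t * b * t) * t = b := by
        have : t * (t * b * t) * t = (t * t) * b * (t * t) := by group
        rw [this, htt, one_mul, mul_one]
      rw [hj, hbt, h4, hpow] at h6
      have h7 : b * a ^ j * ((a ^ j)⁻¹ * z ^ j) = b * z ^ j := by group
      rw [h7] at h6
      exact mul_left_cancel (h6.trans (mul_one b).symm)
    have hje : Even j := by
      by_contra hne
      rw [Nat.not_even_iff_odd] at hne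
      obtain ⟨l, rfl⟩ := hne
      rw [pow_succ, pow_mul, pow_two, q.zz, one_pow, one_mul] at h5
      exact q.z_ne h5
    obtain ⟨l, rfl⟩ := hje
    obtain ⟨n, rfl⟩ : ∃ n, m = n + 3 := ⟨m - 3, by omega⟩
    have hz : a ^ 2 ^ (n + 2) = z := q.hz.symm
    have hev : ∀ e : ℕ, z ^ (2 * e) = 1 := fun e => by rw [pow_mul, pow_two, q.zz, one_pow]
    apply key (l + l * 2 ^ (n + 1))
    rw [hbt, h4, hpow]
    have h8 : z ^ (l + l * 2 ^ (n + 1)) = z ^ l := by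
      rw [pow_add, show l * 2 ^ (n + 1) = 2 * (l * 2 ^ n) from by rw [pow_succ]; ring, hev, mul_one]
    have h9 : a ^ (l + l * 2 ^ (n + 1)) * a ^ (l + l * 2 ^ (n + 1)) = a ^ (l + l) * z ^ l := by
      rw [← hz, ← pow_mul, ← pow_add, ← pow_add]
      congr 1
      rw [pow_succ 2 (n + 1)]; ring
    rw [h8]
    have h10 : b * a ^ (l + l) * ((a ^ (l + l * 2 ^ (n + 1)))⁻¹ * z ^ l) =
        b * (a ^ (l + l) * z ^ l) * (a ^ (l + l * 2 ^ (n + 1)))⁻¹ := by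
      have hc : Commute ((a ^ (l + l * 2 ^ (n + 1)))⁻¹) (z ^ l) := ((hcza _).inv_left).pow_right l
      rw [hc.eq]; group
    rw [h10, ← h9]; group

/-- (D), the other way round. -/
theorem factD' {P : Subgroup Ω} {f : Ω → Ω} (hf : Mp F P f) {z' : Ω} (hz : z' ∈ P) {y : Ω} (hy : y ∈ P)
    (hyK : y ∈ centralizerIn S R) (hy2 : y * y = 1) (hy1 : y ≠ 1) (hfy : f y ∈ centralizerIn S R) (hfz : f z' = z) : z' = z := by
  have hle : Subgroup.zpowers z' ⊔ Subgroup.zpowers y ≤ P := mem_sup_zpowers hz hy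
  have hz'P : z' ∈ Subgroup.zpowers z' ⊔ Subgroup.zpowers y := Subgroup.mem_sup_left (Subgroup.mem_zpowers _)
  have hyP : y ∈ Subgroup.zpowers z' ⊔ Subgroup.zpowers y := Subgroup.mem_sup_right (Subgroup.mem_zpowers _)
  obtain ⟨T, hT, -, -⟩ := hf.exists_image hle
  obtain ⟨g, hg, hg1, hg2⟩ := hf.exists_symm hle hT
  have h1 : g z = z' := by rw [← hfz]; exact hg1 _ hz'P
  have h2 : g (f y) = y := hg1 _ hyP
  have hzT : z ∈ T := (hT z).mpr ⟨z', hz'P, hfz⟩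
  have hyT : f y ∈ T := (hT _).mpr ⟨y, hyP, rfl⟩
  have h3 := h.factD hg hzT hyT hfy (by rw [← hf.mul hy hy, hy2, hf.one])
    (fun h4 => hy1 (hf.inj hy (one_mem _) (h4.trans hf.one.symm))) (by rw [h2]; exact hyK)
  rw [← h1, h3]

variable (hB : ∀ (t : Ω) (β : Ω → Ω), VD F z t β → TySD R a b z t)
include hB

/-- all conjugates of `z` are of type SD. -/
theorem all_sd {t : Ω} (ht : CE F z t) (hne : t ≠ z) : SD R a b z r m t := by
  obtain ⟨ψ, β, hψ, hψz, hv, -⟩ := h.factG ht hne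
  have hty := hB _ _ hv
  have htS := ce_right ht
  have htC : t ∈ CS S t := mem_cent.mpr ⟨htS, rfl⟩
  have hzC : z ∈ CS S t := mem_cent.mpr ⟨h.zS, (h.z_centr t htS).symm⟩
  refine ⟨h.qr, sd_of_fixed h htS (h.tt ht) fun x hx hxt => ?_, h.tt ht⟩
  have hxC : x ∈ CS S t := mem_cent.mpr ⟨h.RS hx, hxt.symm⟩
  have h1 := h.factC hψ hzC hψz x hx hxC
  have h2 : ψ t * ψ x = ψ x * ψ t := by rw [← hψ.mul htC hxC, hxt, hψ.mul hxC htC]
  rcases hty.cen _ h1 h2 with h3 | h3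
  · left; exact hψ.inj hxC (one_mem _) (h3.trans hψ.one.symm)
  · right; exact hψ.inj hxC hzC (h3.trans hψz.symm)

/-- (B0) -/
theorem B0 {t : Ω} (ht : CE F z t) (hne : t ≠ z) {s : Ω} (hs : s ∈ S) : s * s ≠ t :=
  not_sq h hs (all_sd h hB ht hne).ty.ta

/-- (B1): `C_S(t)` is abelian. -/
theorem B1 {t : Ω} {β : Ω → Ω} (v : VD F z t β) {s s' : Ω} (hs : s ∈ CS S t) (hs' : s' ∈ CS S t) : s * s' = s' * s := by
  have d := all_sd h hB v.cj v.ne
  have hzC : z ∈ CS S t := mem_cent.mpr ⟨h.zS, (h.z_centr t (ce_right v.cj)).symm⟩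
  by_contra hne
  have hg1 : s * s' * s⁻¹ * s'⁻¹ ≠ 1 := by
    intro h1
    apply hne
    have h2 : s * s' = (s * s' * s⁻¹ * s'⁻¹) * (s' * s) := by group
    rw [h2, h1, one_mul]
  have hgC : s * s' * s⁻¹ * s'⁻¹ ∈ CS S t := mul_mem (mul_mem (mul_mem hs hs') (inv_mem hs)) (inv_mem hs')
  have hgK := comm_mem_K h d hs hs'
  have hgK' := comm_mem_K h d (v.maps s hs) (v.maps s' hs')
  have hβg : β (s * s' * s⁻¹ * s'⁻¹) = β s * β s' * (β s)⁻¹ * (β s')⁻¹ := by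
    rw [v.mp.mul (mul_mem (mul_mem hs hs') (inv_mem hs)) (inv_mem hs'), v.mp.mul (mul_mem hs hs') (inv_mem hs),
      v.mp.mul hs hs', v.mp.inv hs, v.mp.inv hs']
  rw [← hβg] at hgK'
  obtain ⟨n, hn1, hn2⟩ := pow_invol h.hS hgC.1 hg1
  have h1 := h.factD v.mp hzC (pow_mem hgC (2 ^ n)) (pow_mem hgK (2 ^ n)) hn2 hn1
    (by rw [v.mp.pow hgC]; exact pow_mem hgK' _)
  rw [v.βz] at h1
  exact v.ne h1

theorem B2core {t : Ω} {β : Ω → Ω} (v : VD F z t β) {y : Ω} (hyC : y ∈ CS S t) (hyK : y ∈ centralizerIn S R)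
    (hyy : y * y = 1) (hy1 : y ≠ 1) (hx : β y * a = a * β y) : False := by
  have htS := ce_right v.cj
  have htC : t ∈ CS S t := mem_cent.mpr ⟨htS, rfl⟩
  have hzC : z ∈ CS S t := mem_cent.mpr ⟨h.zS, (h.z_centr t htS).symm⟩
  have hxC := v.maps y hyC
  obtain ⟨y₀, hyy₀, hfc⟩ := exists_fc h.sat hyK.1
  have hy₀K : y₀ ∈ centralizerIn S R := by
    obtain ⟨χ, hχ, hχy⟩ := hfc y hyy₀
    have hR := h.R_le_CS hyK
    have hyC : y ∈ CS S y := mem_cent.mpr ⟨hyK.1, rfl⟩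
    refine mem_centK.mpr ⟨ce_right hyy₀, fun x hx => ?_⟩
    obtain ⟨x', hx', rfl⟩ := h.R_surj hχ hR hx
    rw [← hχy, ← hχ.mul hyC (hR hx'), ← hχ.mul (hR hx') hyC, (mem_centK.mp hyK).2 x' hx']
  obtain ⟨χ, hχ, hχx⟩ := hfc (β y) ((CE.of_mp v.mp hyC).symm.trans hyy₀)
  have hzx : z ∈ CS S (β y) := mem_cent.mpr ⟨h.zS, (h.z_centr _ hxC.1).symm⟩
  have hax : a ∈ CS S (β y) := mem_cent.mpr ⟨h.RS h.qr.aR, hx.symm⟩
  have hrx : r ∈ CS S (β y) := by rw [h.qr.hr]; exact pow_mem hax _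
  have hχz : χ z = z := by
    by_contra hne
    refine B0 h hB (CE.of_mp hχ hzx) hne (hχ.mem hrx) ?_
    rw [← hχ.mul hrx hrx, h.qr.rr]
  have hmap : ∀ x ∈ CS S t, β x ∈ CS S (β y) := fun x hx => by
    refine mem_cent.mpr ⟨(v.maps x hx).1, ?_⟩
    rw [← v.mp.mul hx hyC, ← v.mp.mul hyC hx, B1 h hB v hx hyC]
  have hf := v.mp.comp hχ hmap
  have htz : t * z ∈ CS S t := mul_mem htC hzC
  have hβ : β (t * z) = z := by
    rw [v.mp.mul htC hzC, v.βt, v.βz, mul_assoc, h.z_centr t htS |>.symm, ← mul_assoc, h.tt v.cj, one_mul]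
  have h1 : t * z = z := factD' h hf htz hyC hyK hyy hy1 (by rw [hχx]; exact hy₀K) (by rw [hβ, hχz])
  exact h.t_ne v.cj (mul_eq_right.mp h1)

/-- (B2): `C_K(t) = ⟨z⟩`. -/
theorem B2 {t : Ω} {β : Ω → Ω} (v : VD F z t β) {x : Ω} (hxC : x ∈ CS S t) (hxK : x ∈ centralizerIn S R) : x = 1 ∨ x = z := by
  have htS := ce_right v.cj
  have htC : t ∈ CS S t := mem_cent.mpr ⟨htS, rfl⟩
  have hzC : z ∈ CS S t := mem_cent.mpr ⟨h.zS, (h.z_centr t htS).symm⟩
  have d := all_sd h hB v.cj v.ne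
  -- involutions
  have inv : ∀ y ∈ CS S t, y ∈ centralizerIn S R → y * y = 1 → y ≠ 1 → y = z := by
    intro y hyC hyK hyy hy1
    by_contra hyz
    have hβy := v.maps y hyC
    have hββ : β y * β y = 1 := by rw [← v.mp.mul hyC hyC, hyy, v.mp.one]
    have hyzK : y * z ∈ centralizerIn S R := mul_mem hyK h.zK
    have hyzC : y * z ∈ CS S t := mul_mem hyC hzC
    have hyz2 : (y * z) * (y * z) = 1 := by
      have : (y * z) * (y * z) = y * (z * y) * z := by group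
      rw [this, ← h.z_centr y hyC.1]
      have : y * (y * z) * z = (y * y) * (z * z) := by group
      rw [this, hyy, h.qr.zz, one_mul]
    have hyz1 : y * z ≠ 1 := by
      intro h1
      apply hyz
      rw [mul_eq_one_iff_eq_inv, h.qr.zinv] at h1
      exact h1
    have hβyz : β (y * z) = β y * t := by rw [v.mp.mul hyC hzC, v.βz]
    rcases type4 h d htS hβy hββ with h1 | h1 | h1 | h1
    · have h2 := h.factD v.mp hzC hyC hyK hyy hy1 h1
      rw [v.βz] at h2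
      exact v.ne h2
    · rw [← hβyz] at h1
      have h2 := h.factD v.mp hzC hyzC hyzK hyz2 hyz1 h1
      rw [v.βz] at h2
      exact v.ne h2
    · exact B2core h hB v hyC hyK hyy hy1 h1.1
    · rw [← hβyz] at h1
      exact B2core h hB v hyzC hyzK hyz2 hyz1 h1.1
  by_cases h1 : x = 1
  · exact Or.inl h1
  right
  obtain ⟨n, hn1, hn2⟩ := pow_invol h.hS hxC.1 h1
  have h2 := inv _ (pow_mem hxC _) (pow_mem hxK _) hn2 hn1
  cases n with
  | zero => simpa using h2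
  | succ n =>
    exfalso
    have h3 : x ^ 2 ^ n ∈ CS S t := pow_mem hxC _
    refine B0 h hB v.cj v.ne (v.mp.mem h3) ?_
    rw [← v.mp.mul h3 h3, ← pow_two, ← pow_mul, ← pow_succ, h2, v.βz]

end sit

end Cfsg.Agent.H782.QB
end

-- part: H782/Q/B3
section
/-! # S5176, section 2 (case B): (B3) the structure of `K` -/
set_option autoImplicit false
set_option linter.unusedSectionVars false

open Cfsg Cfsg.FusionSystem Cfsg.Agent.H752 Cfsg.Agent.H784.SF Cfsg.Agent.H784.Q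

universe u

namespace Cfsg.Agent.H782.QB

variable {Ω : Type u} [Group Ω] {S : Subgroup Ω} [Finite S] {F : FusionSystem S} {R : Subgroup Ω} {a b z r : Ω} {m : ℕ}

/-- `K⟨t⟩` -/
def adj (K : Subgroup Ω) (t : Ω) (htt : t * t = 1) (hK : ∀ x ∈ K, t * x * t ∈ K) : Subgroup Ω where
  carrier := {x | ∃ k ∈ K, x = k ∨ x = k * t}
  one_mem' := ⟨1, one_mem _, Or.inl rfl⟩
  mul_mem' := by
    have hswap : ∀ x ∈ K, t * x = (t * x * t) * t := fun x _ => by rw [mul_assoc (t * x), htt, mul_one]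
    rintro x y ⟨p, hp, rfl | rfl⟩ ⟨s, hs, rfl | rfl⟩
    · exact ⟨_, mul_mem hp hs, Or.inl rfl⟩
    · exact ⟨_, mul_mem hp hs, Or.inr (mul_assoc _ _ _).symm⟩
    · exact ⟨_, mul_mem hp (hK _ hs), Or.inr (by simp only [mul_assoc, htt, mul_one])⟩
    · exact ⟨_, mul_mem hp (hK _ hs), Or.inl (by simp only [mul_assoc])⟩
  inv_mem' := by
    rintro x ⟨p, hp, rfl | rfl⟩
    · exact ⟨_, inv_mem hp, Or.inl rfl⟩
    · refine ⟨_, hK _ (inv_mem hp), Or.inr ?_⟩
      rw [mul_inv_rev, inv_eq_of_mul_eq_one_right htt, mul_assoc (t * p⁻¹), htt, mul_one]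

theorem mem_adj {K : Subgroup Ω} {t : Ω} {htt : t * t = 1} {hK : ∀ x ∈ K, t * x * t ∈ K} {x : Ω} :
    x ∈ adj K t htt hK ↔ ∃ k ∈ K, x = k ∨ x = k * t := Iff.rfl

theorem grow (hS : IsPGroup 2 S) {K H : Subgroup Ω} {t : Ω} (htt : t * t = 1) (hK : ∀ x ∈ K, t * x * t ∈ K)
    (hH : ∀ x ∈ H, t * x * t ∈ H) (hHK : H ≤ K) (hne : H ≠ K) (KS : K ≤ S) (tS : t ∈ S) (tK : t ∉ K) :
    ∃ w ∈ K, w ∉ H ∧ ∃ u ∈ H, w * t * w⁻¹ = u * t := by
  have : Fact (Nat.Prime 2) := ⟨Nat.prime_two⟩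
  have htinv : t⁻¹ = t := inv_eq_of_mul_eq_one_right htt
  have hXS : adj K t htt hK ≤ S := by
    rintro x ⟨p, hp, rfl | rfl⟩
    · exact KS hp
    · exact mul_mem (KS hp) tS
  have htH : t ∈ adj H t htt hH := ⟨1, one_mem _, Or.inr (one_mul _).symm⟩
  obtain ⟨w₀, hw₀K, hw₀H⟩ : ∃ w ∈ K, w ∉ H := by
    by_contra hcon
    push Not at hcon
    exact hne (le_antisymm hHK hcon)
  have haux : ∀ x ∈ K, x ∈ adj H t htt hH → x ∈ H := by
    rintro x hx ⟨p, hp, rfl | rfl⟩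
    · exact hp
    · exfalso; apply tK
      have := mul_mem (inv_mem (hHK hp)) hx
      rwa [inv_mul_cancel_left] at this
  have hlt : adj H t htt hH < adj K t htt hK := by
    refine lt_of_le_of_ne ?_ fun heq => ?_
    · rintro x ⟨p, hp, hx⟩
      exact ⟨p, hHK hp, hx⟩
    · have h1 : w₀ ∈ adj K t htt hK := ⟨w₀, hw₀K, Or.inl rfl⟩
      rw [← heq] at h1
      exact hw₀H (haux _ hw₀K h1)
  obtain ⟨g, hgX, hgn, hgN⟩ := H759.exists_mem_normalizer_not_mem hS hXS hlt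
  obtain ⟨w, hwK, hwn, hwN⟩ : ∃ w ∈ K, w ∉ adj H t htt hH ∧ w ∈ Subgroup.normalizer (adj H t htt hH : Set Ω) := by
    obtain ⟨p, hp, rfl | rfl⟩ := hgX
    · exact ⟨_, hp, hgn, hgN⟩
    · refine ⟨p, hp, fun h2 => hgn (mul_mem h2 htH), ?_⟩
      have h3 := mul_mem hgN (Subgroup.le_normalizer htH)
      rwa [mul_assoc, htt, mul_one] at h3
  refine ⟨w, hwK, fun h1 => hwn ⟨w, h1, Or.inl rfl⟩, ?_⟩
  have h1 : w * t * w⁻¹ ∈ adj H t htt hH := (Subgroup.mem_normalizer_iff.mp hwN t).mp htH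
  obtain ⟨u, hu, h2 | h2⟩ := h1
  · exfalso
    apply tK
    have h3 : t = w⁻¹ * u * w := by rw [← h2]; group
    rw [h3]
    exact mul_mem (mul_mem (inv_mem hwK) (hHK hu)) hwK
  · exact ⟨u, hu, h2⟩

/-- powers of an element of order at most 2 -/
theorem zp_two {x y : Ω} (hx : x * x = 1) (hy : y ∈ Subgroup.zpowers x) : y = 1 ∨ y = x := by
  obtain ⟨i, rfl⟩ := hy
  change x ^ i = 1 ∨ x ^ i = x
  rcases Int.even_or_odd' i with ⟨k, rfl | rfl⟩
  · left; rw [zpow_mul, zpow_two, hx, one_zpow]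
  · right; rw [zpow_add, zpow_mul, zpow_two, hx, one_zpow, one_mul, zpow_one]

/-- powers of an element of order at most 4 -/
theorem zp_four {c z y : Ω} (hc : c * c = z) (hz : z * z = 1) (hy : y ∈ Subgroup.zpowers c) :
    y = 1 ∨ y = z ∨ y = c ∨ y = c * z := by
  obtain ⟨i, rfl⟩ := hy
  change c ^ i = 1 ∨ c ^ i = z ∨ c ^ i = c ∨ c ^ i = c * z
  rcases Int.even_or_odd' i with ⟨k, rfl | rfl⟩
  · rw [zpow_mul, zpow_two, hc]
    rcases zp_two hz (Subgroup.zpow_mem _ (Subgroup.mem_zpowers z) k) with h | h <;> rw [h]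
    · exact Or.inl rfl
    · exact Or.inr (Or.inl rfl)
  · rw [zpow_add, zpow_mul, zpow_two, hc, zpow_one]
    rcases zp_two hz (Subgroup.zpow_mem _ (Subgroup.mem_zpowers z) k) with h | h <;> rw [h]
    · rw [one_mul]; exact Or.inr (Or.inr (Or.inl rfl))
    · right; right; right; rw [← hc, mul_assoc]

section sit
variable (h : Sit F R a b z r m)
include h

theorem K_conj {s : Ω} (hs : s ∈ S) {x : Ω} (hx : x ∈ centralizerIn S R) : s * x * s⁻¹ ∈ centralizerIn S R := by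
  rw [mem_centK] at hx ⊢
  refine ⟨mul_mem (mul_mem hs hx.1) (inv_mem hs), fun y hy => ?_⟩
  have h1 := hx.2 _ (h.Rn s⁻¹ (inv_mem hs) y hy)
  rw [inv_inv] at h1
  calc s * x * s⁻¹ * y = s * (x * (s⁻¹ * y * s)) * s⁻¹ := by group
    _ = s * (s⁻¹ * y * s * x) * s⁻¹ := by rw [h1]
    _ = y * (s * x * s⁻¹) := by group

theorem ar_mul {w x : Ω} (hw : w ∈ S) (hx : x ∈ S) (h1 : Ar a b z w) (h2 : Ar a b z x) : w * x⁻¹ ∈ centralizerIn S R := by
  have hxz : x⁻¹ * z = z * x⁻¹ := h.z_centr _ (inv_mem hx)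
  have hwz : w * z = z * w := h.z_centr _ hw
  have hca : Commute w a := h1.1
  have hca' : Commute x a := h2.1
  refine cen_of h.qr (mul_mem hw (inv_mem hx)) (hca.mul_left hca'.inv_left) ?_
  have h3 : x⁻¹ * b = b * z * x⁻¹ := by
    have h4 := h2.2
    rw [mul_inv_eq_iff_eq_mul] at h4
    have h5 : x⁻¹ * (b * z * x) * z = x⁻¹ * (x * b) * z := by rw [h4]
    have h6 : x⁻¹ * (b * z * x) * z = x⁻¹ * b * (z * (x * z)) := by group
    rw [h6, h.z_centr x hx, ← mul_assoc z, h.qr.zz, one_mul, inv_mul_cancel_left] at h5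
    rw [← h5]; group
  have h4 : w * b = b * z * w := mul_inv_eq_iff_eq_mul.mp h1.2
  rw [mul_assoc, h3, mul_assoc b, ← mul_assoc w b, h4, ← hxz, ]
  calc b * z * w * (x⁻¹ * z) = b * z * (w * (x⁻¹ * z)) := by group
    _ = b * z * (w * (z * x⁻¹)) := by rw [hxz]
    _ = b * z * ((w * z) * x⁻¹) := by group
    _ = b * z * ((z * w) * x⁻¹) := by rw [hwz]
    _ = b * (z * z) * (w * x⁻¹) := by group
    _ = b * (w * x⁻¹) := by rw [h.qr.zz, mul_one]

variable (hB : ∀ (t : Ω) (β : Ω → Ω), VD F z t β → TySD R a b z t)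
include hB

/-- elements commuting with `a` are not conjugate to `z`. -/
theorem not_ce {x : Ω} (hx : x * a = a * x) (hne : x ≠ z) : ¬ CE F z x := by
  intro h1
  have h2 := (all_sd h hB h1 hne).ty.ta
  rw [hx] at h2
  have h3 : a = a⁻¹ := mul_right_cancel h2
  have h4 : a ^ 2 = 1 := by rw [pow_two]; nth_rw 2 [h3]; exact mul_inv_cancel a
  have h5 := orderOf_dvd_of_pow_eq_one h4
  rw [h.qr.oa] at h5
  have h6 : 2 ^ m ∣ 2 ^ 1 := h5
  have h7 := (Nat.pow_dvd_pow_iff_le_right (by norm_num : 1 < 2)).mp h6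
  have := h.qr.m3
  omega

/-- (B3), the conjugates of `z` in `E`. -/
theorem B3core {t : Ω} {β : Ω → Ω} (v : VD F z t β) {c : Ω} (hc : c ∈ centralizerIn S R) (hcc : c * c = z)
    (hct : c * t * c⁻¹ = z * t) : ¬ CE F z (r * c * t) ∧ ¬ CE F z (r * c * z * t) := by
  have q := h.qr
  have htS := ce_right v.cj
  have htC : t ∈ CS S t := mem_cent.mpr ⟨htS, rfl⟩
  have hzC : z ∈ CS S t := mem_cent.mpr ⟨h.zS, (h.z_centr t htS).symm⟩
  have d := all_sd h hB v.cj v.ne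
  have hrS : r ∈ S := h.RS q.rR
  have hcS : c ∈ S := hc.1
  have hxS : r * c ∈ S := mul_mem hrS hcS
  have hcR := (mem_centK.mp hc).2
  have hzcomm : ∀ s ∈ S, Commute s z := fun s hs => h.z_centr s hs
  have hrinv : r⁻¹ = r * z := by rw [inv_eq_iff_mul_eq_one, ← mul_assoc, q.rr, q.zz]
  have hct' : t * c = c * z * t := by
    have h1 : c * t = z * t * c := mul_inv_eq_iff_eq_mul.mp hct
    have h2 : z * (c * t) = t * c := by rw [h1, ← mul_assoc, ← mul_assoc, q.zz, one_mul]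
    rw [← h2, ← mul_assoc, (hzcomm c hcS).eq]
  have htr : t * r = r * z * t := by rw [d.tr, hrinv]
  have hrt : r * t = t * r * z := by
    rw [htr, mul_assoc (r * z), h.z_centr t htS, ← mul_assoc, mul_assoc r, q.zz, mul_one]
  have hxt : t * (r * c) = r * c * t := by
    have e1 : t * (r * c) = r * z * (t * c) := by rw [← mul_assoc, htr, mul_assoc]
    rw [e1, hct', ← mul_assoc, mul_assoc r z, ← mul_assoc z c z, (hzcomm c hcS).symm.eq, mul_assoc c z z, q.zz, mul_one]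
  have hxC : r * c ∈ CS S t := mem_cent.mpr ⟨hxS, hxt.symm⟩
  have hxx : (r * c) * (r * c) = 1 := by
    calc (r * c) * (r * c) = r * (c * r) * c := by group
      _ = (r * r) * (c * c) := by rw [hcR r q.rR]; group
      _ = 1 := by rw [q.rr, hcc, q.zz]
  have hxa : (r * c) * a = a * (r * c) := by
    rw [mul_assoc, hcR a q.aR, ← mul_assoc, q.ra, mul_assoc]
  have hAr : Ar a b z (r * c) := by
    refine ⟨hxa, ?_⟩
    have h1 : r * c * b * (r * c)⁻¹ = r * (c * b * c⁻¹) * r⁻¹ := by group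
    rw [h1, hcR b q.bR, mul_inv_cancel_right]
    have h2 : r * b = b * r⁻¹ := by
      have h2 := q.ba_zpow (-(2 ^ (m - 2) : ℕ) : ℤ)
      rw [zpow_neg, zpow_natCast, ← q.hr, inv_inv] at h2
      exact h2.symm
    rw [h2, mul_assoc, ← mul_inv_rev, q.rr, q.zinv]
  have hx1 : r * c ≠ 1 := by
    intro h1
    have h2 := hAr.2
    rw [h1, one_mul, inv_one, mul_one] at h2
    exact q.z_ne (mul_eq_left.mp h2.symm)
  have hxz : r * c ≠ z := by
    intro h1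
    have h2 := hAr.2
    rw [h1, q.bz, mul_inv_cancel_right] at h2
    exact q.z_ne (mul_eq_left.mp h2.symm)
  have hxz1 : r * c * z ≠ z := fun h1 => hx1 (mul_eq_right.mp h1)
  have hn1 := not_ce h hB hxa hxz
  have hn2 : ¬ CE F z (r * c * z) := not_ce h hB (by
    rw [mul_assoc (r * c), q.az, ← mul_assoc, hxa, mul_assoc]) hxz1
  have hr' : r * t * r⁻¹ = z * t := by
    have h4 := d.ta_zpow (-(2 ^ (m - 2) : ℕ) : ℤ)
    rw [zpow_neg, zpow_natCast, ← q.hr, inv_inv] at h4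
    rw [← h4, mul_assoc, ← mul_inv_rev, q.rr, q.zinv, h.z_centr t htS]
  have hrx : r * (r * c) * r⁻¹ = r * c := by rw [← hcR r q.rR, ← mul_assoc, mul_inv_cancel_right, hcR r q.rR]
  -- `xt` and `xzt` are conjugate
  have e1 : r * (r * c * t) * r⁻¹ = r * c * z * t := by
    have h2 : r * (r * c * t) * r⁻¹ = (r * (r * c) * r⁻¹) * (r * t * r⁻¹) := by group
    rw [h2, hrx, hr', mul_assoc (r * c)]
  have e2 : r⁻¹ * (r * c * z * t) * r⁻¹⁻¹ = r * c * t := by rw [← e1]; group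
  have c1 : CE F (r * c * t) (r * c * z * t) := by
    have h1 := CE.of_mp (mp_conj F (le_refl S) hrS) (mul_mem hxS htS)
    rwa [e1] at h1
  have c2 : CE F (r * c * z * t) (r * c * t) := c1.symm
  suffices hs : ¬ (CE F z (r * c * t) ∧ CE F z (r * c * z * t)) from
    ⟨fun h1 => hs ⟨h1, h1.trans c1⟩, fun h1 => hs ⟨h1.trans c2, h1⟩⟩
  rintro ⟨c3, c4⟩
  have hβxC := v.maps _ hxC
  have hβxx : β (r * c) * β (r * c) = 1 := by rw [← v.mp.mul hxC hxC, hxx, v.mp.one]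
  have hnβ : ¬ CE F z (β (r * c)) := fun h1 => hn1 (h1.trans (CE.of_mp v.mp hxC).symm)
  have hztc : CE F z (z * t) := by
    have h1 := (CE.of_mp v.mp htC)
    rw [v.βt, h.z_centr t htS] at h1
    exact v.cj.trans h1
  have hzz : CE F z z := CE.of_mp (mp_id F (le_refl S)) h.zS
  have htinv := d.tinv
  have hβne : β (r * c) ≠ 1 := fun h1 => hx1 (v.mp.inj hxC (one_mem _) (h1.trans v.mp.one.symm))
  rcases type4 h d htS hβxC hβxx with h1 | h1 | h1 | h1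
  · rcases B2 h hB v hβxC h1 with h2 | h2
    · exact hβne h2
    · rw [h2] at hnβ; exact hnβ hzz
  · rcases B2 h hB v (mul_mem hβxC htC) h1 with h2 | h2
    · rw [mul_eq_one_iff_eq_inv, htinv] at h2
      rw [h2] at hnβ; exact hnβ v.cj
    · rw [← eq_mul_inv_iff_mul_eq, htinv] at h2
      rw [h2] at hnβ; exact hnβ hztc
  · -- `β x = x` or `xz`
    have h2 := ar_mul h hβxC.1 hxS h1 hAr
    have h3 := B2 h hB v (mul_mem hβxC (inv_mem hxC)) h2
    have h4 : β (r * c * z) = β (r * c) * t := by rw [v.mp.mul hxC hzC, v.βz]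
    have h5 : CE F z (β (r * c) * t) := by
      rcases h3 with h3 | h3
      · rw [mul_inv_eq_one] at h3
        rw [h3]; exact c3
      · rw [mul_inv_eq_iff_eq_mul, ← h.z_centr _ hxS] at h3
        rw [h3]; exact c4
    rw [← h4] at h5
    exact hn2 (h5.trans (CE.of_mp v.mp (mul_mem hxC hzC)).symm)
  · have h2 := ar_mul h (mul_mem hβxC htC).1 hxS h1 hAr
    have h3 := B2 h hB v (mul_mem (mul_mem hβxC htC) (inv_mem hxC)) h2
    rcases h3 with h3 | h3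
    · rw [mul_inv_eq_one, ← eq_mul_inv_iff_mul_eq, htinv] at h3
      rw [h3] at hnβ; exact hnβ c3
    · rw [mul_inv_eq_iff_eq_mul, ← eq_mul_inv_iff_mul_eq, htinv, ← h.z_centr _ hxS] at h3
      rw [h3] at hnβ; exact hnβ c4

omit hB in
theorem ce_conj {x s : Ω} (hx : x ∈ S) (hs : s ∈ S) : CE F x (s * x * s⁻¹) :=
  CE.of_mp (mp_conj F (le_refl S) hs) hx

omit hB in
theorem ce_move {x s : Ω} (hx : CE F z x) (hs : s ∈ S) : CE F z (s * x * s⁻¹) :=
  hx.trans (ce_conj h (ce_right hx) hs)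

omit hB in
theorem rc_comm {t : Ω} (d : SD R a b z r m t) {c : Ω} (hc : c ∈ centralizerIn S R) (hct : c * t * c⁻¹ = z * t) :
    t * (r * c) = r * c * t := by
  have q := h.qr
  have hcS : c ∈ S := hc.1
  have hzc : c * z = z * c := h.z_centr c hcS
  have hrinv : r⁻¹ = r * z := by rw [inv_eq_iff_mul_eq_one, ← mul_assoc, q.rr, q.zz]
  have hct' : t * c = c * z * t := by
    have h1 : c * t = z * t * c := mul_inv_eq_iff_eq_mul.mp hct
    have h2 : z * (c * t) = t * c := by rw [h1, ← mul_assoc, ← mul_assoc, q.zz, one_mul]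
    rw [← h2, ← mul_assoc, hzc]
  have htr : t * r = r * z * t := by rw [d.tr, hrinv]
  have e1 : t * (r * c) = r * z * (t * c) := by rw [← mul_assoc, htr, mul_assoc]
  rw [e1, hct', ← mul_assoc, mul_assoc r z, ← mul_assoc z c z, hzc.symm, mul_assoc c z z, q.zz, mul_one]

/-- (B3) -/
theorem B3 {t : Ω} {β : Ω → Ω} (v : VD F z t β) : ∃ c, c ^ 4 = 1 ∧ centralizerIn S R ≤ Subgroup.zpowers c ∧
    ∀ κ ∈ centralizerIn S R, CE F z (κ * t) → κ = 1 ∨ κ = z := by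
  have q := h.qr
  have htS := ce_right v.cj
  have htC : t ∈ CS S t := mem_cent.mpr ⟨htS, rfl⟩
  have hzC : z ∈ CS S t := mem_cent.mpr ⟨h.zS, (h.z_centr t htS).symm⟩
  have d := all_sd h hB v.cj v.ne
  have htt := d.tt
  have htinv := d.tinv
  have hz4 : z ^ 4 = 1 := by rw [show (4 : ℕ) = 2 * 2 from rfl, pow_mul, pow_two z, q.zz, one_pow]
  have hrS : r ∈ S := h.RS q.rR
  have hKt : ∀ x ∈ centralizerIn S R, t * x * t ∈ centralizerIn S R := fun x hx => by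
    have := K_conj h htS hx
    rwa [htinv] at this
  have htK : t ∉ centralizerIn S R := h.not_K v.cj v.ne
  have hzt : t * z * t = z := by rw [d.tz, mul_assoc, htt, mul_one]
  have zle : Subgroup.zpowers z ≤ centralizerIn S R := Subgroup.zpowers_le.mpr h.zK
  by_cases hK1 : Subgroup.zpowers z = centralizerIn S R
  · refine ⟨z, hz4, le_of_eq hK1.symm, fun κ hκ _ => ?_⟩
    rw [← hK1] at hκ
    exact zp_two q.zz hκ
  obtain ⟨c, hcK, hcn, u, hu, hct⟩ := grow h.hS htt hKt (H := Subgroup.zpowers z) (fun x hx => by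
    rcases zp_two q.zz hx with rfl | rfl
    · rw [mul_one, htt]; exact one_mem _
    · rw [hzt]; exact Subgroup.mem_zpowers _) zle hK1 inf_le_left htS htK
  have hcS : c ∈ S := hcK.1
  have hcR := (mem_centK.mp hcK).2
  have inC : ∀ w ∈ centralizerIn S R, w * t * w⁻¹ = t → w = 1 ∨ w = z := fun w hw hwt =>
    B2 h hB v (mem_cent.mpr ⟨hw.1, mul_inv_eq_iff_eq_mul.mp hwt⟩) hw
  have hct' : c * t * c⁻¹ = z * t := by
    rcases zp_two q.zz hu with h1 | h1 <;> rw [h1] at hct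
    · exfalso
      rw [one_mul] at hct
      rcases inC c hcK hct with h2 | h2 <;> rw [h2] at hcn
      · exact hcn (one_mem _)
      · exact hcn (Subgroup.mem_zpowers _)
    · exact hct
  have hrc := rc_comm h d hcK hct'
  have hccK : c * c ∈ centralizerIn S R := mul_mem hcK hcK
  have hcz : c * z * c⁻¹ = z := by rw [h.z_centr c hcS, mul_inv_cancel_right]
  have hcc : c * c = z := by
    refine (inC _ hccK ?_).resolve_left fun h1 => ?_
    · have e1 : c * c * t * (c * c)⁻¹ = c * (c * t * c⁻¹) * c⁻¹ := by group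
      have e2 : c * (z * t) * c⁻¹ = (c * z * c⁻¹) * (c * t * c⁻¹) := by group
      rw [e1, hct', e2, hcz, hct', ← mul_assoc, q.zz, one_mul]
    · have hxC : r * c ∈ CS S t := mem_cent.mpr ⟨mul_mem hrS hcS, hrc.symm⟩
      refine B0 h hB v.cj v.ne (v.mp.mem hxC) ?_
      rw [← v.mp.mul hxC hxC]
      have e1 : (r * c) * (r * c) = z := by
        have : (r * c) * (r * c) = r * (c * r) * c := by group
        rw [this, hcR r q.rR]
        have : r * (r * c) * c = (r * r) * (c * c) := by group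
        rw [this, h1, q.rr, mul_one]
      rw [e1, v.βz]
  obtain ⟨hn1, hn2⟩ := B3core h hB v hcK hcc hct'
  -- the square root of `r`
  have hm := q.m3
  have ha1 : a ^ 2 ^ (m - 3) * a ^ 2 ^ (m - 3) = r := by
    rw [q.hr, ← pow_add, ← two_mul, ← pow_succ']
    congr 2; omega
  have ha1S : a ^ 2 ^ (m - 3) ∈ S := h.RS (pow_mem q.aR _)
  have ha1t : a ^ 2 ^ (m - 3) * t * (a ^ 2 ^ (m - 3))⁻¹ = r * t := by
    have h4 := d.ta_zpow (-(2 ^ (m - 3) : ℕ) : ℤ)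
    rw [zpow_neg, zpow_natCast, inv_inv] at h4
    rw [mul_assoc, h4, ← mul_assoc, ha1]
  have conjκ : ∀ κ ∈ centralizerIn S R, CE F z (κ * t) → CE F z (r * κ * t) := by
    intro κ hκ h1
    have hκR := (mem_centK.mp hκ).2
    have h2 := ce_move h h1 ha1S
    have e1 : a ^ 2 ^ (m - 3) * (κ * t) * (a ^ 2 ^ (m - 3))⁻¹ =
        (a ^ 2 ^ (m - 3) * κ) * t * (a ^ 2 ^ (m - 3))⁻¹ := by group
    have e2 : κ * a ^ 2 ^ (m - 3) * t * (a ^ 2 ^ (m - 3))⁻¹ =
        κ * (a ^ 2 ^ (m - 3) * t * (a ^ 2 ^ (m - 3))⁻¹) := by group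
    rw [e1, ← hκR _ (pow_mem q.aR _), e2, ha1t, ← mul_assoc, hκR r q.rR] at h2
    exact h2
  have hcases : ∀ κ ∈ Subgroup.zpowers c, CE F z (κ * t) → κ = 1 ∨ κ = z := by
    intro κ hκ h1
    rcases zp_four hcc q.zz hκ with h2 | h2 | h2 | h2
    · exact Or.inl h2
    · exact Or.inr h2
    · exfalso; rw [h2] at h1; exact hn1 (conjκ c hcK h1)
    · exfalso; rw [h2] at h1
      have h3 := conjκ _ (mul_mem hcK h.zK) h1
      rw [← mul_assoc r] at h3
      exact hn2 h3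
  have hc4 : c ^ 4 = 1 := by rw [show (4 : ℕ) = 2 * 2 from rfl, pow_mul, pow_two c, hcc, pow_two z, q.zz]
  have cle : Subgroup.zpowers c ≤ centralizerIn S R := Subgroup.zpowers_le.mpr hcK
  by_cases hK2 : Subgroup.zpowers c = centralizerIn S R
  · exact ⟨c, hc4, le_of_eq hK2.symm, fun κ hκ => hcases κ (by rw [hK2]; exact hκ)⟩
  exfalso
  have zc : z ∈ Subgroup.zpowers c := by rw [← hcc]; exact mul_mem (Subgroup.mem_zpowers _) (Subgroup.mem_zpowers _)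
  have htc : t * c * t = c * z := by
    have h1 : c * t = z * t * c := mul_inv_eq_iff_eq_mul.mp hct'
    have h2 : z * (c * t) = t * c := by rw [h1, ← mul_assoc, ← mul_assoc, q.zz, one_mul]
    rw [← h2, mul_assoc, mul_assoc, htt, mul_one, h.z_centr c hcS]
  obtain ⟨w, hwK, hwn, u, hu, hwt⟩ := grow h.hS htt hKt (H := Subgroup.zpowers c) (fun x hx => by
    rcases zp_four hcc q.zz hx with h1 | h1 | h1 | h1 <;> rw [h1]
    · rw [mul_one, htt]; exact one_mem _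
    · rw [hzt]; exact zc
    · rw [htc]; exact mul_mem (Subgroup.mem_zpowers _) zc
    · have : t * (c * z) * t = (t * c * t) * z := by
        rw [← mul_assoc, mul_assoc (t * c), ← d.tz, ← mul_assoc]
      rw [this, htc]; exact mul_mem (mul_mem (Subgroup.mem_zpowers _) zc) zc) cle hK2 inf_le_left htS htK
  have hCE : CE F z (u * t) := by rw [← hwt]; exact ce_move h v.cj hwK.1
  rcases hcases u hu hCE with h1 | h1 <;> rw [h1] at hwt
  · rw [one_mul] at hwt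
    rcases inC w hwK hwt with h2 | h2 <;> rw [h2] at hwn
    · exact hwn (one_mem _)
    · exact hwn zc
  · have h2 : c⁻¹ * w ∈ centralizerIn S R := mul_mem (inv_mem hcK) hwK
    have h3 : c⁻¹ * w * t * (c⁻¹ * w)⁻¹ = t := by
      have e1 : c⁻¹ * w * t * (c⁻¹ * w)⁻¹ = c⁻¹ * (w * t * w⁻¹) * c := by group
      rw [e1, hwt, ← hct']; group
    have h4 : c⁻¹ * w ∈ Subgroup.zpowers c := by
      rcases inC _ h2 h3 with h4 | h4 <;> rw [h4]
      · exact one_mem _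
      · exact zc
    apply hwn
    have := mul_mem (Subgroup.mem_zpowers c) h4
    rwa [mul_inv_cancel_left] at this

end sit

end Cfsg.Agent.H782.QB
end

-- part: H782/Q/B4
section
/-! # S5176, section 2 (case B): (B4) and the conclusion -/
set_option autoImplicit false
set_option linter.unusedSectionVars false

open Cfsg Cfsg.FusionSystem Cfsg.Agent.H752 Cfsg.Agent.H784.SF Cfsg.Agent.H784.Q

universe u

namespace Cfsg.Agent.H782.QB

variable {Ω : Type u} [Group Ω] {S : Subgroup Ω} [Finite S] {F : FusionSystem S} {R : Subgroup Ω} {a b z r : Ω} {m : ℕ}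

section sit
variable (h : Sit F R a b z r m)
include h

omit h in
/-- all `a^l t` are conjugate to `t` under `R`. -/
theorem at_conj {t : Ω} (d : SD R a b z r m t) (l : ℤ) : ∃ ρ ∈ R, a ^ l * t = ρ * t * ρ⁻¹ := by
  have q := d.q
  obtain ⟨j, hjo, hj⟩ := d.exj
  have hk : ∀ k : ℤ, a ^ k * t * (a ^ k)⁻¹ = a ^ (2 * k) * t := by
    intro k
    have h4 := d.ta_zpow (-k)
    rw [zpow_neg, inv_inv] at h4
    rw [mul_assoc, h4, ← mul_assoc, ← zpow_add, two_mul]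
  have hb : b * t * b⁻¹ = a ^ (j : ℤ) * t := by
    have h1 : t * b⁻¹ * t = (a ^ j)⁻¹ * b⁻¹ := by
      have h2 : (t * b * t)⁻¹ = (b * a ^ j)⁻¹ := by rw [hj]
      rw [mul_inv_rev, mul_inv_rev, mul_inv_rev, d.tinv, ← mul_assoc] at h2
      exact h2
    have h2 : t * b⁻¹ = (a ^ j)⁻¹ * b⁻¹ * t := by rw [← h1, mul_assoc _ t t, d.tt, mul_one]
    have h3 : b * (a ^ j)⁻¹ = a ^ j * b := by
      have := q.ba_zpow (-(j : ℤ))
      rwa [zpow_neg, zpow_natCast, inv_inv] at this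
    rw [mul_assoc, h2, ← mul_assoc, ← mul_assoc, h3, mul_inv_cancel_right, zpow_natCast]
  rcases Int.even_or_odd' l with ⟨k, rfl | rfl⟩
  · exact ⟨a ^ k, zpow_mem q.aR k, (hk k).symm⟩
  · obtain ⟨e, rfl⟩ := hjo
    refine ⟨a ^ (k - e) * b, mul_mem (zpow_mem q.aR _) q.bR, ?_⟩
    have h1 : a ^ (k - e : ℤ) * b * t * (a ^ (k - e : ℤ) * b)⁻¹ = a ^ (k - e : ℤ) * (b * t * b⁻¹) * (a ^ (k - e : ℤ))⁻¹ := by group
    have h2 : a ^ (k - e : ℤ) * (a ^ ((2 * e + 1 : ℕ) : ℤ) * t) * (a ^ (k - e : ℤ))⁻¹ =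
        a ^ ((2 * e + 1 : ℕ) : ℤ) * (a ^ (k - e : ℤ) * t * (a ^ (k - e : ℤ))⁻¹) := by
      rw [← mul_assoc, ← zpow_add, add_comm, zpow_add]; group
    rw [h1, hb, h2, hk, ← mul_assoc, ← zpow_add]
    congr 2
    push_cast; ring

variable (hB : ∀ (t : Ω) (β : Ω → Ω), VD F z t β → TySD R a b z t)
include hB

/-- (B4): `z` and the conjugates of `t` under `R` are all conjugates of `z`. -/
theorem B4 {t : Ω} {β : Ω → Ω} (v : VD F z t β) {t₁ : Ω} (ht₁ : CE F z t₁) (hne : t₁ ≠ z) : ∃ ρ ∈ R, t₁ = ρ * t * ρ⁻¹ := by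
  have q := h.qr
  have htS := ce_right v.cj
  have d := all_sd h hB v.cj v.ne
  have d₁ := all_sd h hB ht₁ hne
  have ht₁S := ce_right ht₁
  obtain ⟨j, hjo, hj⟩ := d.exj
  obtain ⟨j₁, hjo₁, hj₁⟩ := d₁.exj
  obtain ⟨e, rfl⟩ := hjo
  obtain ⟨e₁, rfl⟩ := hjo₁
  -- `κ := a^l t₁ t`
  obtain ⟨l, hl⟩ : ∃ l : ℤ, l = (e₁ : ℤ) - e := ⟨_, rfl⟩
  have hκK : a ^ l * (t₁ * t) ∈ centralizerIn S R := by
    refine cen_of q (mul_mem (h.RS (zpow_mem q.aR _)) (mul_mem ht₁S htS)) ?_ ?_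
    · have h1 : t₁ * t * a = a * (t₁ * t) := by
        have h2 := d₁.ta_zpow (-1)
        rw [zpow_neg, zpow_one, inv_inv] at h2
        rw [mul_assoc, d.ty.ta, ← mul_assoc, h2, mul_assoc]
      exact (((Commute.refl a).zpow_left l).mul_left (show Commute (t₁ * t) a from h1)).eq
    · have h1 : t₁ * t * b * (t₁ * t)⁻¹ = b * a ^ (2 * l) := by
        have h2 : t₁ * t * b * (t₁ * t)⁻¹ = t₁ * (t * b * t⁻¹) * t₁⁻¹ := by group
        have h3 : t₁ * (b * a ^ (2 * e + 1)) * t₁ = (t₁ * b * t₁) * (t₁ * a ^ (2 * e + 1) * t₁) := by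
          have : (t₁ * b * t₁) * (t₁ * a ^ (2 * e + 1) * t₁) = t₁ * b * (t₁ * t₁) * a ^ (2 * e + 1) * t₁ := by group
          rw [this, d₁.tt, mul_one]; group
        rw [h2, d.tinv, hj, d₁.tinv, h3, hj₁, d₁.ta_pow, mul_assoc (a ^ (2 * e + 1))⁻¹, d₁.tt, mul_one, mul_assoc]
        congr 1
        rw [← zpow_natCast, ← zpow_natCast, ← zpow_neg, ← zpow_add]
        congr 1
        rw [hl]; push_cast; ring
      have h2 : t₁ * t * b = b * a ^ (2 * l) * (t₁ * t) := mul_inv_eq_iff_eq_mul.mp h1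
      have h3 : a ^ l * b = b * a ^ (-l) := by
        have := q.ba_zpow (-l)
        rw [zpow_neg, inv_inv] at this
        rw [zpow_neg]; exact this.symm
      calc a ^ l * (t₁ * t) * b = a ^ l * (t₁ * t * b) := by group
        _ = (a ^ l * b) * a ^ (2 * l) * (t₁ * t) := by rw [h2]; group
        _ = b * a ^ (-l) * a ^ (2 * l) * (t₁ * t) := by rw [h3]
        _ = b * (a ^ l * (t₁ * t)) := by group
  obtain ⟨κ, hκ⟩ : ∃ κ, κ = a ^ l * (t₁ * t) := ⟨_, rfl⟩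
  rw [← hκ] at hκK
  have hκR := (mem_centK.mp hκK).2
  have ht₁ : t₁ = κ * (a ^ (-l) * t) := by
    rw [← mul_assoc, hκR _ (zpow_mem q.aR _), hκ]
    have : a ^ (-l) * (a ^ l * (t₁ * t)) * t = t₁ * (t * t) := by group
    rw [this, d.tt, mul_one]
  obtain ⟨ρ, hρ, hρt⟩ := at_conj d (-l)
  rw [hρt] at ht₁
  have h1 : ρ⁻¹ * t₁ * ρ = κ * t := by
    have h2 : ρ⁻¹ * κ = κ * ρ⁻¹ := (hκR _ (inv_mem hρ)).symm
    calc ρ⁻¹ * t₁ * ρ = ρ⁻¹ * κ * ρ * t := by rw [ht₁]; group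
      _ = κ * t := by rw [h2]; group
  have h2 : CE F z (κ * t) := by
    rw [← h1]
    have := ce_move h ‹CE F z t₁› (h.RS (inv_mem hρ))
    rwa [inv_inv] at this
  obtain ⟨c, -, -, hc⟩ := B3 h hB v
  rcases hc κ hκK h2 with h3 | h3
  · exact ⟨ρ, hρ, by rw [ht₁, h3, one_mul]⟩
  · obtain ⟨σ, hσ, hσt⟩ := h.factF v.cj v.ne
    refine ⟨ρ * σ⁻¹, mul_mem hρ (inv_mem hσ), ?_⟩
    have h4 : ρ * σ⁻¹ * t * (ρ * σ⁻¹)⁻¹ = ρ * (σ⁻¹ * t * σ) * ρ⁻¹ := by group
    rw [h4, hσt, ht₁, h3]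
    have h5 : z * (ρ * t * ρ⁻¹) = (ρ * t * ρ⁻¹) * z :=
      (h.z_centr _ (mul_mem (mul_mem (h.RS hρ) htS) (inv_mem (h.RS hρ)))).symm
    have h6 : ρ⁻¹ * z = z * ρ⁻¹ := h.z_centr _ (inv_mem (h.RS hρ))
    rw [h5, mul_assoc, h6]; group

theorem SRC {t : Ω} {β : Ω → Ω} (v : VD F z t β) {s : Ω} (hs : s ∈ S) : ∃ ρ ∈ R, ∃ σ ∈ CS S t, s = ρ * σ := by
  have htS := ce_right v.cj
  have h1 := ce_move h v.cj hs
  have h2 : s * t * s⁻¹ ≠ z := by
    intro h3
    rw [mul_inv_eq_iff_eq_mul, ← h.z_centr s hs] at h3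
    exact v.ne (mul_left_cancel h3)
  obtain ⟨ρ, hρ, h4⟩ := B4 h hB v h1 h2
  refine ⟨ρ, hρ, ρ⁻¹ * s, mem_cent.mpr ⟨mul_mem (inv_mem (h.RS hρ)) hs, ?_⟩, by rw [mul_inv_cancel_left]⟩
  have h5 : s * t = ρ * t * ρ⁻¹ * s := mul_inv_eq_iff_eq_mul.mp h4
  rw [mul_assoc, h5]; group

/-- `[S, S] ≤ R` -/
theorem comm_R {t : Ω} {β : Ω → Ω} (v : VD F z t β) {s s' : Ω} (hs : s ∈ S) (hs' : s' ∈ S) : s * s' * s⁻¹ * s'⁻¹ ∈ R := by
  obtain ⟨ρ, hρ, σ, hσ, rfl⟩ := SRC h hB v hs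
  obtain ⟨ρ', hρ', σ', hσ', rfl⟩ := SRC h hB v hs'
  have h1 : σ * σ' = σ' * σ := B1 h hB v hσ hσ'
  have h2 : ρ * σ * (ρ' * σ') * (ρ * σ)⁻¹ * (ρ' * σ')⁻¹ =
      ρ * (σ * ρ' * σ⁻¹) * ((σ * σ') * (σ' * σ)⁻¹) * (ρ' * (σ' * ρ * σ'⁻¹))⁻¹ := by group
  rw [h2, h1, mul_inv_cancel, mul_one]
  exact mul_mem (mul_mem hρ (h.Rn σ hσ.1 ρ' hρ')) (inv_mem (mul_mem hρ' (h.Rn σ' hσ'.1 ρ hρ)))

end sit

end Cfsg.Agent.H782.QB
end

-- part: H782/Q/B5
section
/-! # S5176, section 2 (case B): `[C_S(t), β] ≤ ⟨z, t⟩` and the conclusion -/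
set_option autoImplicit false
set_option linter.unusedSectionVars false

open Cfsg Cfsg.FusionSystem Cfsg.Agent.H752 Cfsg.Agent.H784.SF Cfsg.Agent.H784.Q

universe u

namespace Cfsg.Agent.H782.QB

variable {Ω : Type u} [Group Ω] {S : Subgroup Ω} [Finite S] {F : FusionSystem S} {R : Subgroup Ω} {a b z r : Ω} {m : ℕ}

theorem tzt {R : Subgroup Ω} {t : Ω} (d : SD R a b z r m t) : ∀ x ∈ Subgroup.zpowers z, t * x * t ∈ Subgroup.zpowers z := by
  intro x hx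
  rcases zp_two d.q.zz hx with rfl | rfl
  · rw [mul_one, d.tt]; exact one_mem _
  · rw [d.tz, mul_assoc, d.tt, mul_one]; exact Subgroup.mem_zpowers _

/-- `W = ⟨z, t⟩` -/
abbrev Wt {R : Subgroup Ω} {t : Ω} (d : SD R a b z r m t) : Subgroup Ω := adj (Subgroup.zpowers z) t d.tt (tzt d)

theorem mem_W {R : Subgroup Ω} {t : Ω} (d : SD R a b z r m t) {x : Ω} :
    x ∈ Wt d ↔ x = 1 ∨ x = z ∨ x = t ∨ x = z * t := by
  rw [mem_adj]
  constructor
  · rintro ⟨k, hk, h1⟩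
    rcases zp_two d.q.zz hk with rfl | rfl
    · rw [one_mul] at h1; rcases h1 with h1 | h1
      · exact Or.inl h1
      · exact Or.inr (Or.inr (Or.inl h1))
    · rcases h1 with h1 | h1
      · exact Or.inr (Or.inl h1)
      · exact Or.inr (Or.inr (Or.inr h1))
  · rintro (h1 | h1 | h1 | h1)
    · exact ⟨1, one_mem _, Or.inl h1⟩
    · exact ⟨z, Subgroup.mem_zpowers _, Or.inl h1⟩
    · exact ⟨1, one_mem _, Or.inr (by rw [one_mul]; exact h1)⟩
    · exact ⟨z, Subgroup.mem_zpowers _, Or.inr h1⟩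

section sit
variable (h : Sit F R a b z r m) (hB : ∀ (t : Ω) (β : Ω → Ω), VD F z t β → TySD R a b z t)
include h hB

theorem B5 {t : Ω} {β : Ω → Ω} (v : VD F z t β) (d : SD R a b z r m t) : ∀ y ∈ CS S t, y⁻¹ * β y ∈ Wt d := by
  have q := h.qr
  have htS := ce_right v.cj
  have htC : t ∈ CS S t := mem_cent.mpr ⟨htS, rfl⟩
  have hzC : z ∈ CS S t := mem_cent.mpr ⟨h.zS, (h.z_centr t htS).symm⟩
  have comm : ∀ s ∈ CS S t, ∀ s' ∈ CS S t, s * s' = s' * s := fun s hs s' hs' => B1 h hB v hs hs'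
  have hWC : Wt d ≤ CS S t := by
    intro x hx
    rcases (mem_W d).mp hx with h1 | h1 | h1 | h1 <;> rw [h1]
    · exact one_mem _
    · exact hzC
    · exact htC
    · exact mul_mem hzC htC
  have z1 : (1 : Ω) ∈ Wt d := one_mem _
  have zW : z ∈ Wt d := (mem_W d).mpr (Or.inr (Or.inl rfl))
  have tW : t ∈ Wt d := (mem_W d).mpr (Or.inr (Or.inr (Or.inl rfl)))
  have htz : t * z = z * t := d.tz
  have hβzt : β (z * t) = z := by
    rw [v.mp.mul hzC htC, v.βz, v.βt, ← mul_assoc, d.tt, one_mul]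
  have hβW : ∀ x ∈ Wt d, β x ∈ Wt d := by
    intro x hx
    rcases (mem_W d).mp hx with h1 | h1 | h1 | h1 <;> rw [h1]
    · rw [v.mp.one]; exact z1
    · rw [v.βz]; exact tW
    · rw [v.βt]; exact mul_mem tW zW
    · rw [hβzt]; exact zW
  have hβW' : ∀ x ∈ CS S t, β x ∈ Wt d → x ∈ Wt d := by
    intro x hx hβ
    rcases (mem_W d).mp hβ with h1 | h1 | h1 | h1
    · rw [← v.mp.one] at h1; rw [v.mp.inj hx (one_mem _) h1]; exact z1
    · rw [← hβzt] at h1; rw [v.mp.inj hx (mul_mem hzC htC) h1]; exact mul_mem zW tW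
    · rw [← v.βz] at h1; rw [v.mp.inj hx hzC h1]; exact zW
    · rw [← htz, ← v.βt] at h1; rw [v.mp.inj hx htC h1]; exact tW
  have hztc : CE F z (z * t) := by
    have h1 := (CE.of_mp v.mp htC)
    rw [v.βt, htz] at h1
    exact v.cj.trans h1
  have hztne : z * t ≠ z := fun h1 => h.t_ne v.cj (mul_eq_left.mp h1)
  -- squares in `W` are trivial
  have sqW : ∀ u ∈ CS S t, u * u ∈ Wt d → u * u = 1 := by
    intro u hu huu
    rcases (mem_W d).mp huu with h1 | h1 | h1 | h1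
    · exact h1
    · exfalso
      refine B0 h hB v.cj v.ne (v.mp.mem hu) ?_
      rw [← v.mp.mul hu hu, h1, v.βz]
    · exact absurd h1 (B0 h hB v.cj v.ne hu.1)
    · exact absurd h1 (B0 h hB hztc hztne hu.1)
  -- involutions outside `W`
  have typ : ∀ w ∈ CS S t, w * w = 1 → w ∉ Wt d → ∃ e ∈ Wt d, Ar a b z (w * e) := by
    intro w hw hww hnW
    rcases type4 h d htS hw hww with h1 | h1 | h1 | h1
    · exfalso; apply hnW
      rcases B2 h hB v hw h1 with h2 | h2 <;> rw [h2]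
      · exact z1
      · exact zW
    · exfalso; apply hnW
      have h3 : w * t ∈ Wt d := by
        rcases B2 h hB v (mul_mem hw htC) h1 with h2 | h2 <;> rw [h2]
        · exact z1
        · exact zW
      have := mul_mem h3 (inv_mem tW)
      rwa [mul_inv_cancel_right] at this
    · exact ⟨1, z1, by rw [mul_one]; exact h1⟩
    · exact ⟨t, tW, h1⟩
  have idx : ∀ w ∈ CS S t, ∀ w' ∈ CS S t, w * w = 1 → w' * w' = 1 → w ∉ Wt d → w' ∉ Wt d → w⁻¹ * w' ∈ Wt d := by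
    intro w hw w' hw' hww hww' hn hn'
    obtain ⟨e, he, h1⟩ := typ w hw hww hn
    obtain ⟨e', he', h2⟩ := typ w' hw' hww' hn'
    have c1 := mul_mem hw (hWC he)
    have c2 := mul_mem hw' (hWC he')
    have h3 := ar_mul h c2.1 c1.1 h2 h1
    have h4 : w' * e' * (w * e)⁻¹ ∈ Wt d := by
      rcases B2 h hB v (mul_mem c2 (inv_mem c1)) h3 with h5 | h5 <;> rw [h5]
      · exact z1
      · exact zW
    have h5 : w⁻¹ * w' = e * ((w' * e' * (w * e)⁻¹) * e'⁻¹) := by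
      have k1 : Commute w w' := comm _ hw _ hw'
      have k2 : Commute e w' := comm _ (hWC he) _ hw'
      have k3 : Commute e e' := comm _ (hWC he) _ (hWC he')
      have k4 : Commute w e' := comm _ hw _ (hWC he')
      have k5 : Commute w e := comm _ hw _ (hWC he)
      have k6 : Commute e' (w * e)⁻¹ := (k4.symm.mul_right k3.symm).inv_right
      calc w⁻¹ * w' = w' * w⁻¹ := (k1.inv_left).eq
        _ = w' * (e * e⁻¹ * w⁻¹) := by rw [mul_inv_cancel, one_mul]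
        _ = (w' * e) * (e⁻¹ * w⁻¹) := by group
        _ = (e * w') * (e⁻¹ * w⁻¹) := by rw [k2.eq]
        _ = e * (w' * (w * e)⁻¹) := by group
        _ = e * (w' * ((w * e)⁻¹ * e') * e'⁻¹) := by group
        _ = e * (w' * (e' * (w * e)⁻¹) * e'⁻¹) := by rw [k6.eq]
        _ = _ := by group
    rw [h5]
    exact mul_mem he (mul_mem h4 (inv_mem he'))
  have invW : ∀ w ∈ CS S t, w * w = 1 → w⁻¹ * β w ∈ Wt d := by
    intro w hw hww
    by_cases hwW : w ∈ Wt d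
    · exact mul_mem (inv_mem hwW) (hβW w hwW)
    · exact idx w hw (β w) (v.maps w hw) hww (by rw [← v.mp.mul hw hw, hww, v.mp.one]) hwW fun h1 => hwW (hβW' w hw h1)
  obtain ⟨n, hno, hn⟩ := v.odd
  have hiter : ∀ j : ℕ, ∀ y ∈ CS S t, β^[j] y ∈ CS S t := by
    intro j
    induction j with
    | zero => intro y hy; exact hy
    | succ j ih => intro y hy; rw [Function.iterate_succ_apply']; exact v.maps _ (ih y hy)
  -- induction
  have main : ∀ k : ℕ, ∀ y ∈ CS S t, y ^ 2 ^ k ∈ Wt d → y⁻¹ * β y ∈ Wt d := by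
    intro k
    induction k with
    | zero =>
      intro y hy hyW
      rw [pow_zero, pow_one] at hyW
      exact mul_mem (inv_mem hyW) (hβW y hyW)
    | succ k ih =>
      intro y hy hyW
      have hyy := mul_mem hy hy
      have h1 : (y * y) ^ 2 ^ k ∈ Wt d := by
        rw [← pow_two, ← pow_mul, ← pow_succ']; exact hyW
      have h2 := ih _ hyy h1
      obtain ⟨u, hu⟩ : ∃ u, u = y⁻¹ * β y := ⟨_, rfl⟩
      have huC : u ∈ CS S t := by rw [hu]; exact mul_mem (inv_mem hy) (v.maps y hy)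
      have hβy : β y = y * u := by rw [hu, mul_inv_cancel_left]
      have kyu : Commute y u := comm _ hy _ huC
      have h3 : (y * y)⁻¹ * β (y * y) = u * u := by
        rw [v.mp.mul hy hy, hβy]
        have : y * u * (y * u) = (y * y) * (u * u) := by
          calc y * u * (y * u) = y * (u * y) * u := by group
            _ = y * (y * u) * u := by rw [kyu.eq]
            _ = _ := by group
        rw [this, inv_mul_cancel_left]
      rw [h3] at h2
      have huu := sqW u huC h2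
      have h4 := invW u huC huu
      obtain ⟨w₀, hw₀⟩ : ∃ w₀, w₀ = u⁻¹ * β u := ⟨_, rfl⟩
      rw [← hw₀] at h4
      have hβu : β u = u * w₀ := by rw [hw₀, mul_inv_cancel_left]
      have hj : ∀ j : ℕ, ∃ w ∈ Wt d, β^[j] y = y * u ^ j * w := by
        intro j
        induction j with
        | zero => exact ⟨1, z1, by simp⟩
        | succ j ihj =>
          obtain ⟨w, hw, hwj⟩ := ihj
          have kuw : Commute u w₀ := comm _ huC _ (hWC h4)
          refine ⟨w₀ ^ j * β w, mul_mem (pow_mem h4 j) (hβW w hw), ?_⟩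
          rw [Function.iterate_succ_apply', hwj, v.mp.mul (mul_mem hy (pow_mem huC j)) (hWC hw),
            v.mp.mul hy (pow_mem huC j), v.mp.pow huC, hβy, hβu, kuw.mul_pow, pow_succ']
          group
      obtain ⟨w, hw, hwn⟩ := hj n
      rw [hn y hy] at hwn
      have h5 : u ^ n * w = 1 := by
        have : y * (u ^ n * w) = y := by rw [← mul_assoc]; exact hwn.symm
        exact mul_eq_left.mp this
      obtain ⟨l, rfl⟩ := hno
      have h6 : u ^ (2 * l + 1) = u := by rw [pow_succ, pow_mul, pow_two, huu, one_pow, one_mul]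
      rw [h6] at h5
      rw [← hu, eq_inv_of_mul_eq_one_left h5]
      exact inv_mem hw
  intro y hy
  obtain ⟨k, hk⟩ := h.hS ⟨y, hy.1⟩
  have hk' : y ^ 2 ^ k = 1 := congrArg Subtype.val hk
  exact main k y hy (by rw [hk']; exact z1)

end sit

end Cfsg.Agent.H782.QB
end

-- part: H782/Q/CaseB
section
/-! # S5176, section 2 (case B): the conclusion, `S` is semidihedral -/
set_option autoImplicit false
set_option linter.unusedSectionVars false

open Cfsg Cfsg.FusionSystem Cfsg.Agent.H752 Cfsg.Agent.H784.SF Cfsg.Agent.H784.Q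

universe u

namespace Cfsg.Agent.H782.QB

variable {Ω : Type u} [Group Ω] {S : Subgroup Ω} [Finite S] {F : FusionSystem S} {R : Subgroup Ω} {a b z r : Ω} {m : ℕ}

section sit
variable (h : Sit F R a b z r m)
include h

theorem tRt {t : Ω} (d : SD R a b z r m t) (htS : t ∈ S) : ∀ x ∈ R, t * x * t ∈ R := fun x hx => by
  have := h.Rn t htS x hx
  rwa [d.tinv] at this

variable (hB : ∀ (t : Ω) (β : Ω → Ω), VD F z t β → TySD R a b z t)
include hB

theorem S_eq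
    (hfoc : ∀ S₁ : Subgroup Ω, S₁ ≤ S → (∀ s ∈ S, ∀ x ∈ S₁, s * x * s⁻¹ ∈ S₁) →
      (∀ s ∈ S, ∀ s' ∈ S, s * s' * s⁻¹ * s'⁻¹ ∈ S₁) → R ≤ S₁ → Nat.card (centralizerIn S R) ≤ 4 →
      ∀ (P : Subgroup Ω) (f : Ω → Ω), Mp F P f → z ∈ P → f z = z → ∀ x ∈ P, x⁻¹ * f x ∈ S₁)
    (hgen : ∀ S₁ : Subgroup Ω, S₁ ≤ S → (∀ s ∈ S, ∀ x ∈ S₁, s * x * s⁻¹ ∈ S₁) →
      (∀ s ∈ S, ∀ s' ∈ S, s * s' * s⁻¹ * s'⁻¹ ∈ S₁) →
      (∀ (P : Subgroup Ω) (f : Ω → Ω), Mp F P f → z ∈ P → f z = z → ∀ x ∈ P, x⁻¹ * f x ∈ S₁) →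
      (∀ t, CE F z t → t ≠ z → ∃ f : Ω → Ω, Mp F (CS S t) f ∧ f t = z ∧ ∀ x ∈ CS S t, x⁻¹ * f x ∈ S₁) → S₁ = S)
    {t : Ω} {β : Ω → Ω} (v : VD F z t β) (d : SD R a b z r m t) (htS : t ∈ S) :
    adj R t d.tt (tRt h d htS) = S := by
  have q := h.qr
  obtain ⟨P₀, hP₀⟩ : ∃ P₀, P₀ = adj R t d.tt (tRt h d htS) := ⟨_, rfl⟩
  rw [← hP₀]
  have hRP : R ≤ P₀ := fun x hx => by rw [hP₀]; exact ⟨x, hx, Or.inl rfl⟩
  have htP : t ∈ P₀ := by rw [hP₀]; exact ⟨1, one_mem _, Or.inr (one_mul _).symm⟩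
  have hT : ∀ t₁, CE F z t₁ → t₁ ∈ P₀ := by
    intro t₁ h1
    by_cases hne : t₁ = z
    · rw [hne]; exact hRP q.zR
    obtain ⟨ρ, hρ, h2⟩ := B4 h hB v h1 hne
    rw [h2]
    exact mul_mem (mul_mem (hRP hρ) htP) (inv_mem (hRP hρ))
  have hPS : P₀ ≤ S := by
    rw [hP₀]
    rintro x ⟨p, hp, rfl | rfl⟩
    · exact h.RS hp
    · exact mul_mem (h.RS hp) htS
  have hn : ∀ s ∈ S, ∀ x ∈ P₀, s * x * s⁻¹ ∈ P₀ := by
    intro s hs x hx
    rw [hP₀] at hx
    obtain ⟨p, hp, rfl | rfl⟩ := hx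
    · exact hRP (h.Rn s hs _ hp)
    · have h1 : s * (p * t) * s⁻¹ = (s * p * s⁻¹) * (s * t * s⁻¹) := by group
      rw [h1]
      exact mul_mem (hRP (h.Rn s hs _ hp)) (hT _ (ce_move h v.cj hs))
  have hab : ∀ s ∈ S, ∀ s' ∈ S, s * s' * s⁻¹ * s'⁻¹ ∈ P₀ := fun s hs s' hs' => hRP (comm_R h hB v hs hs')
  have hK : Nat.card (centralizerIn S R) ≤ 4 := by
    obtain ⟨c, hc4, hcK, -⟩ := B3 h hB v
    have hfin : IsOfFinOrder c := isOfFinOrder_iff_pow_eq_one.mpr ⟨4, by norm_num, hc4⟩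
    have h1 : Nat.card (Subgroup.zpowers c) ≤ 4 := by
      rw [Nat.card_zpowers]
      exact Nat.le_of_dvd (by norm_num) (orderOf_dvd_of_pow_eq_one hc4)
    have : Finite (Subgroup.zpowers c) := Nat.finite_of_card_ne_zero (by
      rw [Nat.card_zpowers]; exact (orderOf_pos_iff.mpr hfin).ne')
    exact (Subgroup.card_le_of_le hcK).trans h1
  have hc := hfoc P₀ hPS hn hab hRP hK
  refine hgen P₀ hPS hn hab hc fun t₁ h1 hne => ?_
  obtain ⟨ψ, β₁, hψ, hψz, hv, hmaps⟩ := h.factG h1 hne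
  have ht₁S := ce_right h1
  have ht₁C : t₁ ∈ CS S t₁ := mem_cent.mpr ⟨ht₁S, rfl⟩
  have hzC₁ : z ∈ CS S t₁ := mem_cent.mpr ⟨h.zS, (h.z_centr t₁ ht₁S).symm⟩
  have ht₂S := ce_right hv.cj
  have ht₂C : ψ t₁ ∈ CS S (ψ t₁) := mem_cent.mpr ⟨ht₂S, rfl⟩
  have hzC₂ : z ∈ CS S (ψ t₁) := mem_cent.mpr ⟨h.zS, (h.z_centr _ ht₂S).symm⟩
  have d₂ := all_sd h hB hv.cj hv.ne
  have hWP : Wt d₂ ≤ P₀ := by
    intro x hx
    rcases (mem_W d₂).mp hx with h2 | h2 | h2 | h2 <;> rw [h2]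
    · exact one_mem _
    · exact hRP q.zR
    · exact hT _ hv.cj
    · exact mul_mem (hRP q.zR) (hT _ hv.cj)
  have hβ : ∀ y ∈ CS S (ψ t₁), y⁻¹ * β₁ y ∈ P₀ := fun y hy => hWP (B5 h hB hv d₂ y hy)
  have hm1 := hψ.comp hv.mp hmaps
  have hm2 := hm1.comp hv.mp (fun x hx => hv.maps _ (hmaps x hx))
  refine ⟨_, hm2, ?_, fun x hx => ?_⟩
  · show β₁ (β₁ (ψ t₁)) = z
    rw [hv.βt, hv.mp.mul ht₂C hzC₂, hv.βt, hv.βz, mul_assoc, ← h.z_centr _ ht₂S, ← mul_assoc, d₂.tt, one_mul]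
  · show x⁻¹ * β₁ (β₁ (ψ x)) ∈ P₀
    have e1 : x⁻¹ * β₁ (β₁ (ψ x)) = (x⁻¹ * ψ x) * ((ψ x)⁻¹ * β₁ (ψ x)) * ((β₁ (ψ x))⁻¹ * β₁ (β₁ (ψ x))) := by group
    rw [e1]
    exact mul_mem (mul_mem (hc _ _ hψ hzC₁ hψz x hx) (hβ _ (hmaps x hx))) (hβ _ (hv.maps _ (hmaps x hx)))

end sit

end Cfsg.Agent.H782.QB

namespace Cfsg.Agent.H784.Q

open Cfsg.Agent.H782.QB

variable {Ω : Type u} [Group Ω] {S : Subgroup Ω} [Finite S] {F : FusionSystem S} {R : Subgroup Ω} {a b z r : Ω} {m : ℕ}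

/-- Case B: the order of `S`, and `S` is semidihedral. -/
theorem Sit.caseB_both (h : Sit F R a b z r m) (hB : ∀ (t : Ω) (β : Ω → Ω), VD F z t β → TySD R a b z t)
    (hfoc : ∀ S₁ : Subgroup Ω, S₁ ≤ S → (∀ s ∈ S, ∀ x ∈ S₁, s * x * s⁻¹ ∈ S₁) →
      (∀ s ∈ S, ∀ s' ∈ S, s * s' * s⁻¹ * s'⁻¹ ∈ S₁) → R ≤ S₁ → Nat.card (centralizerIn S R) ≤ 4 →
      ∀ (P : Subgroup Ω) (f : Ω → Ω), Mp F P f → z ∈ P → f z = z → ∀ x ∈ P, x⁻¹ * f x ∈ S₁)
    (hgen : ∀ S₁ : Subgroup Ω, S₁ ≤ S → (∀ s ∈ S, ∀ x ∈ S₁, s * x * s⁻¹ ∈ S₁) →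
      (∀ s ∈ S, ∀ s' ∈ S, s * s' * s⁻¹ * s'⁻¹ ∈ S₁) →
      (∀ (P : Subgroup Ω) (f : Ω → Ω), Mp F P f → z ∈ P → f z = z → ∀ x ∈ P, x⁻¹ * f x ∈ S₁) →
      (∀ t, CE F z t → t ≠ z → ∃ f : Ω → Ω, Mp F (CS S t) f ∧ f t = z ∧ ∀ x ∈ CS S t, x⁻¹ * f x ∈ S₁) → S₁ = S) :
    Nat.card S = 2 ^ (m + 2) ∧ IsQuasiDihedral S := by
  have q := h.qr
  obtain ⟨t₀, hne₀, ht₀⟩ := h.nz
  obtain ⟨ψ, β, -, -, v, -⟩ := h.factG ht₀ hne₀
  generalize ψ t₀ = t at v
  have htS := ce_right v.cj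
  have d := all_sd h hB v.cj v.ne
  have hS := S_eq h hB hfoc hgen v d htS
  have hm := q.m3
  have hyS : b * t ∈ S := mul_mem (h.RS q.bR) htS
  have hY : Subgroup.zpowers (b * t) ≤ S := Subgroup.zpowers_le.mpr hyS
  have htY : t ∉ Subgroup.zpowers (b * t) := by
    intro h1
    have h2 : Commute t (b * t) := by
      obtain ⟨k, hk⟩ := Subgroup.mem_zpowers_iff.mp h1
      have := (Commute.refl (b * t)).zpow_left k
      rwa [hk] at this
    have h3 : Commute t a := by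
      obtain ⟨k, hk⟩ := Subgroup.mem_zpowers_iff.mp d.a_mem
      rw [← hk]; exact h2.zpow_right k
    exact not_ce h hB h3.eq v.ne v.cj
  have hdich : ∀ s ∈ S, s ∈ Subgroup.zpowers (b * t) ∨ s * t ∈ Subgroup.zpowers (b * t) := by
    intro s hs
    rw [← hS] at hs
    have hai : ∀ i : ℕ, a ^ i ∈ Subgroup.zpowers (b * t) := fun i => pow_mem d.a_mem i
    have hbai : ∀ i : ℕ, b * a ^ i * t ∈ Subgroup.zpowers (b * t) := by
      intro i
      have h4 := d.ta_zpow (-(i : ℤ))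
      rw [zpow_neg, zpow_natCast, inv_inv] at h4
      have : b * a ^ i * t = (b * t) * (a ^ i)⁻¹ := by rw [mul_assoc, ← h4, ← mul_assoc]
      rw [this]
      exact mul_mem (Subgroup.mem_zpowers _) (inv_mem (hai i))
    obtain ⟨ρ, hρ, h1⟩ := hs
    obtain ⟨i, h2 | h2⟩ := q.gen ρ hρ <;> rw [h2] at h1 <;> rcases h1 with h1 | h1 <;> rw [h1]
    · exact Or.inl (hai i)
    · right; rw [mul_assoc, d.tt, mul_one]; exact hai i
    · exact Or.inr (hbai i)
    · exact Or.inl (hbai i)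
  have hcard : Nat.card S = 2 ^ (m + 1 + 1) := by
    have h1 := Subgroup.card_mul_index ((Subgroup.zpowers (b * t)).subgroupOf S)
    have h2 : ((Subgroup.zpowers (b * t)).subgroupOf S).index = 2 := by
      rw [Subgroup.index_eq_two_iff]
      refine ⟨⟨t, htS⟩, fun s => ?_⟩
      rw [Subgroup.mem_subgroupOf, Subgroup.mem_subgroupOf]
      change Xor (((s : Ω) * t) ∈ _) _
      by_cases h3 : (s : Ω) ∈ Subgroup.zpowers (b * t)
      · right
        refine ⟨h3, fun h4 => htY ?_⟩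
        have := mul_mem (inv_mem h3) h4
        rwa [inv_mul_cancel_left] at this
      · left
        exact ⟨(hdich s s.2).resolve_left h3, h3⟩
    rw [h2] at h1
    rw [← h1, Nat.card_congr (Subgroup.subgroupOfEquivOfLe hY).toEquiv, Nat.card_zpowers, d.orderOf_y]
    ring
  refine ⟨hcard, m + 1, by omega, hcard, ⟨b * t, hyS⟩, ⟨t, htS⟩, ?_, ?_, ?_⟩
  · rw [← Subgroup.orderOf_coe]; exact d.orderOf_y
  · rw [← Subgroup.orderOf_coe]
    exact orderOf_eq_prime (by rw [pow_two]; exact d.tt) (h.t_ne v.cj)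
  · apply Subtype.ext
    show t * (b * t) * t⁻¹ = (b * t) ^ (2 ^ (m + 1 - 1) - 1)
    rw [d.tinv, d.ty_conj, Nat.add_sub_cancel]
    have h1 : (b * t) * (b * t) ^ (2 ^ m - 1) = z := by
      rw [← pow_succ', Nat.sub_add_cancel (Nat.one_le_two_pow), d.y_pow_half]
    rw [← h1, inv_mul_cancel_left]

/-- Case B: `S` is semidihedral; `hfoc`, `hgen` are `Sit.foc_cen_small` and `Sit.generation`. -/
theorem Sit.caseB_of (h : Sit F R a b z r m) (hB : ∀ (t : Ω) (β : Ω → Ω), VD F z t β → TySD R a b z t)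
    (hfoc : ∀ S₁ : Subgroup Ω, S₁ ≤ S → (∀ s ∈ S, ∀ x ∈ S₁, s * x * s⁻¹ ∈ S₁) →
      (∀ s ∈ S, ∀ s' ∈ S, s * s' * s⁻¹ * s'⁻¹ ∈ S₁) → R ≤ S₁ → Nat.card (centralizerIn S R) ≤ 4 →
      ∀ (P : Subgroup Ω) (f : Ω → Ω), Mp F P f → z ∈ P → f z = z → ∀ x ∈ P, x⁻¹ * f x ∈ S₁)
    (hgen : ∀ S₁ : Subgroup Ω, S₁ ≤ S → (∀ s ∈ S, ∀ x ∈ S₁, s * x * s⁻¹ ∈ S₁) →
      (∀ s ∈ S, ∀ s' ∈ S, s * s' * s⁻¹ * s'⁻¹ ∈ S₁) →
      (∀ (P : Subgroup Ω) (f : Ω → Ω), Mp F P f → z ∈ P → f z = z → ∀ x ∈ P, x⁻¹ * f x ∈ S₁) →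
      (∀ t, CE F z t → t ≠ z → ∃ f : Ω → Ω, Mp F (CS S t) f ∧ f t = z ∧ ∀ x ∈ CS S t, x⁻¹ * f x ∈ S₁) → S₁ = S)
    : IsQuasiDihedral S := (h.caseB_both hB hfoc hgen).2

/-- Case B: the order of `S`. -/
theorem Sit.caseB_card_of (h : Sit F R a b z r m) (hB : ∀ (t : Ω) (β : Ω → Ω), VD F z t β → TySD R a b z t)
    (hfoc : ∀ S₁ : Subgroup Ω, S₁ ≤ S → (∀ s ∈ S, ∀ x ∈ S₁, s * x * s⁻¹ ∈ S₁) →
      (∀ s ∈ S, ∀ s' ∈ S, s * s' * s⁻¹ * s'⁻¹ ∈ S₁) → R ≤ S₁ → Nat.card (centralizerIn S R) ≤ 4 →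
      ∀ (P : Subgroup Ω) (f : Ω → Ω), Mp F P f → z ∈ P → f z = z → ∀ x ∈ P, x⁻¹ * f x ∈ S₁)
    (hgen : ∀ S₁ : Subgroup Ω, S₁ ≤ S → (∀ s ∈ S, ∀ x ∈ S₁, s * x * s⁻¹ ∈ S₁) →
      (∀ s ∈ S, ∀ s' ∈ S, s * s' * s⁻¹ * s'⁻¹ ∈ S₁) →
      (∀ (P : Subgroup Ω) (f : Ω → Ω), Mp F P f → z ∈ P → f z = z → ∀ x ∈ P, x⁻¹ * f x ∈ S₁) →
      (∀ t, CE F z t → t ≠ z → ∃ f : Ω → Ω, Mp F (CS S t) f ∧ f t = z ∧ ∀ x ∈ CS S t, x⁻¹ * f x ∈ S₁) → S₁ = S)
    : Nat.card S = 2 ^ (m + 2) := (h.caseB_both hB hfoc hgen).1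

end Cfsg.Agent.H784.Q
end

-- part: H782/Q/FocCen
section
/-! # S5176, section 3: the focal subgroup of `C_F(z)` -/
set_option autoImplicit false
set_option linter.unusedSectionVars false

open Cfsg Cfsg.FusionSystem Cfsg.Agent.H752 Cfsg.Agent.H784.SF Cfsg.Agent.H784.Q

universe u

namespace Cfsg.Agent.H782.QB

variable {Ω : Type u} [Group Ω] {S : Subgroup Ω} [Finite S] {F : FusionSystem S} {R : Subgroup Ω} {a b z r : Ω} {m : ℕ}

/-- the centralizer system of `z`, with extensions. -/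
theorem cen2 (h : Sit F R a b z r m) : ∃ C : FusionSystem S, C.IsSaturated 2 ∧
    (∀ (P : Subgroup Ω) (f : Ω → Ω), Mp C P f →
      ∃ g, Mp F (P ⊔ Subgroup.zpowers z) g ∧ (∀ x ∈ P, g x = f x) ∧ g z = z) ∧
    (∀ (P : Subgroup Ω) (f : Ω → Ω), Mp F P f → z ∈ P → f z = z → Mp C P f) := by
  have hzS : Subgroup.zpowers z ≤ S := by rw [Subgroup.zpowers_le]; exact h.zS
  obtain ⟨E, hE⟩ := H802.exists_centralizerSystem F hzS
  have hsat := H802.centralizerSystem_isSaturated h.hS h.sat h.fcz hE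
  have e : centralizerIn S (Subgroup.zpowers z) = S := h.CSz
  have key1 : ∀ (P : Subgroup Ω) (f : Ω → Ω), Mp E P f →
      ∃ g, Mp F (P ⊔ Subgroup.zpowers z) g ∧ (∀ x ∈ P, g x = f x) ∧ g z = z := by
    intro P f hf
    rw [H759.mp_centralizer_iff hE] at hf
    obtain ⟨-, -, g, hg, h3, h4⟩ := hf
    exact ⟨g, hg, h3, h4 z (Subgroup.mem_zpowers z)⟩
  have key2 : ∀ (P : Subgroup Ω) (f : Ω → Ω), Mp F P f → z ∈ P → f z = z → Mp E P f := by
    intro P f h1 hz h2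
    have hPz : P ⊔ Subgroup.zpowers z = P := by
      rw [sup_eq_left, Subgroup.zpowers_le]; exact hz
    rw [H759.mp_centralizer_iff hE, e]
    refine ⟨h1.le, fun x hx => h1.mem hx, f, by rw [hPz]; exact h1, fun _ _ => rfl, fun t ht => ?_⟩
    obtain ⟨n, rfl⟩ := ht
    obtain ⟨φ, hφ, h3⟩ := h1
    have hzn : z ^ n ∈ P := zpow_mem hz n
    show f (z ^ n) = z ^ n
    rw [← h3 _ hzn]
    have e2 : (⟨z ^ n, hzn⟩ : P) = ⟨z, hz⟩ ^ n := rfl
    rw [e2, map_zpow, h3 z hz, h2]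
  have gen : ∀ T : Subgroup Ω, T = S → (∃ C : FusionSystem T, C.IsSaturated 2 ∧
      (∀ (P : Subgroup Ω) (f : Ω → Ω), Mp C P f →
      ∃ g, Mp F (P ⊔ Subgroup.zpowers z) g ∧ (∀ x ∈ P, g x = f x) ∧ g z = z) ∧
      (∀ (P : Subgroup Ω) (f : Ω → Ω), Mp F P f → z ∈ P → f z = z → Mp C P f)) →
      ∃ C : FusionSystem S, C.IsSaturated 2 ∧
      (∀ (P : Subgroup Ω) (f : Ω → Ω), Mp C P f →
      ∃ g, Mp F (P ⊔ Subgroup.zpowers z) g ∧ (∀ x ∈ P, g x = f x) ∧ g z = z) ∧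
      (∀ (P : Subgroup Ω) (f : Ω → Ω), Mp F P f → z ∈ P → f z = z → Mp C P f) := by
    intro T hT
    subst hT
    exact fun h => h
  exact gen _ e ⟨E, hsat, key1, key2⟩

section
variable (h : Sit F R a b z r m) {C : FusionSystem S} (hsat : C.IsSaturated 2)
    (hC1 : ∀ (P : Subgroup Ω) (f : Ω → Ω), Mp C P f →
      ∃ g, Mp F (P ⊔ Subgroup.zpowers z) g ∧ (∀ x ∈ P, g x = f x) ∧ g z = z)
include h hC1

theorem closedR : C.StronglyClosed R := by
  refine stronglyClosed_of_mp h.RS fun P f hf hPR x hx => ?_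
  obtain ⟨g, hg, h1, h2⟩ := hC1 P f hf
  rw [← h1 x hx]
  exact h.factC hg (Subgroup.mem_sup_right (Subgroup.mem_zpowers z)) h2 x (hPR hx) (Subgroup.mem_sup_left hx)

theorem resR : pResidual 2 ↥(C.autGroup R) = ⊥ := by
  have q := h.qr
  have : Finite R := H802.finite_of_le h.RS
  have hnq : ¬ Cfsg.Agent.H745.Q.Q8 R a r R := by
    intro h1
    have h2 := h1.cyc a q.aR (Subgroup.mem_zpowers a)
    obtain ⟨i, hi⟩ := h2
    change r ^ i = a at hi
    have h3 : a ^ 4 = 1 := by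
      rw [← hi, ← zpow_natCast, ← zpow_mul, mul_comm, zpow_mul]
      have h4 : r ^ ((4 : ℕ) : ℤ) = 1 := by
        rw [zpow_natCast, show (4 : ℕ) = 2 * 2 from rfl, pow_mul, pow_two r, q.rr, pow_two, q.zz]
      rw [h4, one_zpow]
    have h6 := orderOf_dvd_of_pow_eq_one h3
    rw [q.oa] at h6
    have h7 : 2 ^ m ∣ 2 ^ 2 := h6
    have h8 := (Nat.pow_dvd_pow_iff_le_right (by norm_num : 1 < 2)).mp h7
    have := q.m3
    omega
  rw [eq_bot_iff]
  refine (Subgroup.closure_le _).mpr ?_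
  intro g hg
  have ho : Nat.Coprime (orderOf (g : MulAut R)) 2 := by
    rw [Subgroup.orderOf_coe]; exact hg
  have h1 := Cfsg.Agent.H745.Q.un_oddAut ho
  have h2 := Cfsg.Agent.H745.Q.QR.fix_of_not_q8 q le_rfl h1 hnq
  have h3 := Cfsg.Agent.H745.Q.un_eq_one h2
  exact Subtype.ext h3

include hsat
theorem hyp_RK : ∀ x ∈ C.hyperfocalSubgroup 2, ∃ ρ ∈ R, ∃ κ ∈ centralizerIn S R, x = ρ * κ := by
  have : Fact (Nat.Prime 2) := ⟨Nat.prime_two⟩
  intro x hx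
  have hxS := H747.hyperfocal_le_base C 2 hx
  obtain ⟨α, hα, h1⟩ := S5198.result 2 h.hS C hsat R (closedR h hC1) x hx
  rw [resR h hC1, Subgroup.map_bot, bot_sup_eq] at hα
  obtain ⟨ρ, rfl⟩ := hα
  refine ⟨ρ, ρ.2, (ρ : Ω)⁻¹ * x, mem_centK.mpr ⟨mul_mem (inv_mem (h.RS ρ.2)) hxS, fun y hy => ?_⟩, by group⟩
  have h2 := h1 ⟨y, hy⟩
  have h3 : (ρ : Ω) * y * (ρ : Ω)⁻¹ = x * y * x⁻¹ := h2
  have h4 : x * y = (ρ : Ω) * y * (ρ : Ω)⁻¹ * x := by rw [h3]; group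
  rw [mul_assoc, h4]; group

end

end Cfsg.Agent.H782.QB

namespace Cfsg.Agent.H784.Q

open Cfsg.Agent.H782.QB

variable {Ω : Type u} [Group Ω] {S : Subgroup Ω} [Finite S] {F : FusionSystem S} {R : Subgroup Ω} {a b z r : Ω} {m : ℕ}

/-- the focal subgroup of `C_F(z)` is in `R C_S(R) S'`. -/
theorem Sit.foc_cen (h : Sit F R a b z r m) (S₁ : Subgroup Ω) (h₁ : S₁ ≤ S) (hn : ∀ s ∈ S, ∀ x ∈ S₁, s * x * s⁻¹ ∈ S₁)
    (hab : ∀ s ∈ S, ∀ s' ∈ S, s * s' * s⁻¹ * s'⁻¹ ∈ S₁) (hR : R ≤ S₁) (hK : centralizerIn S R ≤ S₁) :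
    ∀ (P : Subgroup Ω) (f : Ω → Ω), Mp F P f → z ∈ P → f z = z → ∀ x ∈ P, x⁻¹ * f x ∈ S₁ := by
  have : Fact (Nat.Prime 2) := ⟨Nat.prime_two⟩
  obtain ⟨C, hsat, hC1, hC2⟩ := cen2 h
  have h2 : C.focalSubgroup ≤ S₁ := by
    refine H747.focal_le_of_saturated h.hS hsat ?_ ?_
    · rw [Subgroup.commutator_le]
      exact fun s hs s' hs' => hab s hs s' hs'
    · intro x hx
      obtain ⟨ρ, hρ, κ, hκ, rfl⟩ := hyp_RK h hsat hC1 x hx
      exact mul_mem (hR hρ) (hK hκ)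
  intro P f hf hz hfz x hx
  obtain ⟨φ, hφ, h3⟩ := hC2 P f hf hz hfz
  have h4 := H747.focal_mem hφ ⟨x, hx⟩
  rw [h3 x hx] at h4
  exact h2 h4

/-- the same with `R ≤ S₁` only, if `C_S(R)` has order at most four. -/
theorem Sit.foc_cen_small (h : Sit F R a b z r m) (S₁ : Subgroup Ω) (h₁ : S₁ ≤ S) (hn : ∀ s ∈ S, ∀ x ∈ S₁, s * x * s⁻¹ ∈ S₁)
    (hab : ∀ s ∈ S, ∀ s' ∈ S, s * s' * s⁻¹ * s'⁻¹ ∈ S₁) (hR : R ≤ S₁) (hK : Nat.card (centralizerIn S R) ≤ 4) :
    ∀ (P : Subgroup Ω) (f : Ω → Ω), Mp F P f → z ∈ P → f z = z → ∀ x ∈ P, x⁻¹ * f x ∈ S₁ := by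
  have : Fact (Nat.Prime 2) := ⟨Nat.prime_two⟩
  obtain ⟨C, hsat, hC1, hC2⟩ := cen2 h
  have hRK := hyp_RK h hsat hC1
  have hcl := closedR h hC1
  -- `|K : ⟨z⟩| ≤ 2`
  have q := h.qr
  have hidx : ∀ κ ∈ centralizerIn S R, ∀ κ' ∈ centralizerIn S R, κ ∉ R → κ' ∉ R → κ⁻¹ * κ' ∈ R := by
    intro κ hκ κ' hκ' h1 h2
    have hzle : Subgroup.zpowers z ≤ centralizerIn S R := Subgroup.zpowers_le.mpr h.zK
    have hzR : Subgroup.zpowers z ≤ R := Subgroup.zpowers_le.mpr q.zR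
    have hfin : Finite (centralizerIn S R) := H802.finite_of_le inf_le_left
    have hoz : orderOf z = 2 := orderOf_eq_prime (by rw [pow_two]; exact q.zz) q.z_ne
    have hc := Subgroup.card_mul_index ((Subgroup.zpowers z).subgroupOf (centralizerIn S R))
    rw [Nat.card_congr (Subgroup.subgroupOfEquivOfLe hzle).toEquiv, Nat.card_zpowers, hoz] at hc
    have hκn : (⟨κ, hκ⟩ : centralizerIn S R) ∉ (Subgroup.zpowers z).subgroupOf (centralizerIn S R) := fun h3 => h1 (hzR h3)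
    have hκ'n : (⟨κ', hκ'⟩ : centralizerIn S R) ∉ (Subgroup.zpowers z).subgroupOf (centralizerIn S R) := fun h3 => h2 (hzR h3)
    have hne1 : ((Subgroup.zpowers z).subgroupOf (centralizerIn S R)).index ≠ 1 := by
      intro h3
      rw [Subgroup.index_eq_one] at h3
      rw [h3] at hκn
      exact hκn (Subgroup.mem_top _)
    have hne0 : ((Subgroup.zpowers z).subgroupOf (centralizerIn S R)).index ≠ 0 := Subgroup.FiniteIndex.index_ne_zero
    have h2' : ((Subgroup.zpowers z).subgroupOf (centralizerIn S R)).index = 2 := by omega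
    have h3 := (Subgroup.mul_mem_iff_of_index_two h2' (a := (⟨κ, hκ⟩ : centralizerIn S R)⁻¹) (b := ⟨κ', hκ'⟩)).mpr
      ⟨fun h4 => absurd (inv_mem h4) (by rwa [inv_inv]), fun h4 => absurd h4 hκ'n⟩
    exact hzR h3
  have h2 : C.focalSubgroup ≤ S₁ := by
    refine H747.focal_le_of_saturated h.hS hsat ?_ ?_
    · rw [Subgroup.commutator_le]
      exact fun s hs s' hs' => hab s hs s' hs'
    · refine le_trans ?_ hR
      refine H747.hyperfocal_le fun P hP α hα ho => ?_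
      have hfP : Finite P := H802.finite_of_le hP
      have hf : Mp C P (Cfsg.Agent.H745.Q.un α) := Cfsg.Agent.H745.Q.Aut.mp hP hα
      have hodd := Cfsg.Agent.H745.Q.un_oddAut ho
      have hun : ∀ x : P, ((α x : P) : Ω) = Cfsg.Agent.H745.Q.un α x := fun x => by
        rw [Cfsg.Agent.H745.Q.un_apply _ x.2]
      suffices hsuf : ∀ x ∈ P, x⁻¹ * Cfsg.Agent.H745.Q.un α x ∈ R from fun x => by rw [hun]; exact hsuf x x.2
      have hhyp : ∀ x ∈ P, x⁻¹ * Cfsg.Agent.H745.Q.un α x ∈ C.hyperfocalSubgroup 2 := fun x hx => by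
        have := H747.hyperfocal_mem_of_coprime hP hα ho ⟨x, hx⟩
        rwa [hun] at this
      generalize Cfsg.Agent.H745.Q.un α = f at hf hodd hhyp ⊢
      have f1 : ∀ u ∈ P, u ∈ R → f u ∈ R := fun u hu huR => mp_mem_of_stronglyClosed hcl hf hu huR
      have f2 : ∀ u ∈ P, f u ∈ R → u ∈ R := fun u hu huR => mp_mem_of_stronglyClosed' hcl hf hu huR
      have comm : ∀ ρ ∈ R, ∀ κ ∈ centralizerIn S R, Commute κ ρ := fun ρ hρ κ hκ => (mem_centK.mp hκ).2 ρ hρ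
      have f3 : ∀ w ∈ P, (∃ ρ ∈ R, ∃ κ ∈ centralizerIn S R, w = ρ * κ) → w⁻¹ * f w ∈ R := by
        intro w hw hwRK
        by_cases hwR : w ∈ R
        · exact mul_mem (inv_mem hwR) (f1 w hw hwR)
        have hfwR : f w ∉ R := fun h1 => hwR (f2 w hw h1)
        obtain ⟨ρ, hρ, κ, hκ, h1⟩ := hwRK
        obtain ⟨ρ', hρ', κ', hκ', h2⟩ := hRK _ (hhyp w hw)
        have h3 : f w = ρ * ρ' * (κ * κ') := by
          have e1 : f w = w * (w⁻¹ * f w) := by group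
          rw [e1, h2, h1]
          have e2 : ρ * κ * (ρ' * κ') = ρ * (κ * ρ') * κ' := by group
          rw [e2, (comm ρ' hρ' κ hκ).eq]; group
        have h4 : κ ∉ R := fun h5 => hwR (by rw [h1]; exact mul_mem hρ h5)
        have h5 : κ * κ' ∉ R := fun h6 => hfwR (by rw [h3]; exact mul_mem (mul_mem hρ hρ') h6)
        have h6 := hidx κ hκ (κ * κ') (mul_mem hκ hκ') h4 h5
        have h7 : w⁻¹ * f w = ρ' * (κ⁻¹ * (κ * κ')) := by
          rw [h3, h1]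
          have e1 : (ρ * κ)⁻¹ * (ρ * ρ' * (κ * κ')) = κ⁻¹ * ρ' * (κ * κ') := by group
          rw [e1, ((comm ρ' hρ' κ hκ).inv_left).eq]; group
        rw [h7]
        exact mul_mem hρ' h6
      have powmod : ∀ u ∈ S, ∀ w ∈ R, ∀ k : ℕ, (u ^ k)⁻¹ * (u * w) ^ k ∈ R := by
        intro u hu w hw k
        induction k with
        | zero => simp
        | succ k ih =>
          have h1 := h.Rn u⁻¹ (inv_mem hu) _ ih
          have h2 : (u ^ (k + 1))⁻¹ * (u * w) ^ (k + 1) = (u⁻¹ * ((u ^ k)⁻¹ * (u * w) ^ k) * u⁻¹⁻¹) * w := by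
            rw [pow_succ, pow_succ (u * w)]; group
          rw [h2]
          exact mul_mem h1 hw
      intro x hx
      obtain ⟨u, hu⟩ : ∃ u, u = x⁻¹ * f x := ⟨_, rfl⟩
      have huRK := hRK _ (hhyp x hx)
      have huP : u ∈ P := by rw [hu]; exact mul_mem (inv_mem hx) (hodd.maps x hx)
      rw [← hu] at huRK ⊢
      have hfx : f x = x * u := by rw [hu, mul_inv_cancel_left]
      have hfu := f3 u huP huRK
      obtain ⟨w, hw⟩ : ∃ w, w = u⁻¹ * f u := ⟨_, rfl⟩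
      rw [← hw] at hfu
      have hfu' : f u = u * w := by rw [hw, mul_inv_cancel_left]
      have iter : ∀ k : ℕ, (x * u ^ k)⁻¹ * f^[k] x ∈ R := by
        intro k
        induction k with
        | zero => simp
        | succ k ih =>
          obtain ⟨v, hv⟩ : ∃ v, v = (x * u ^ k)⁻¹ * f^[k] x := ⟨_, rfl⟩
          have hvP : v ∈ P := by rw [hv]; exact mul_mem (inv_mem (mul_mem hx (pow_mem huP k))) (hodd.iter_maps hx k)
          rw [← hv] at ih
          have h1 : f^[k] x = x * u ^ k * v := by rw [hv, mul_inv_cancel_left]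
          rw [Function.iterate_succ_apply', h1, hf.mul (mul_mem hx (pow_mem huP k)) hvP, hf.mul hx (pow_mem huP k),
            hf.pow huP, hfx, hfu']
          have h2 : (x * u ^ (k + 1))⁻¹ * (x * u * (u * w) ^ k * f v) = ((u ^ k)⁻¹ * (u * w) ^ k) * f v := by
            rw [pow_succ']; group
          rw [h2]
          exact mul_mem (powmod u (hP huP) w hfu k) (f1 v hvP ih)
      obtain ⟨n, hno, hn⟩ := hodd.odd
      have h1 := iter n
      rw [hn x hx] at h1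
      have h2 : u ^ n ∈ R := by
        have h3 : (x * u ^ n)⁻¹ * x = (u ^ n)⁻¹ := by group
        rw [h3] at h1
        exact inv_mem_iff.mp h1
      obtain ⟨ρ, hρ, κ, hκ, h3⟩ := huRK
      by_cases hκR : κ ∈ R
      · rw [h3]; exact mul_mem hρ hκR
      have h4 : κ * κ ∈ R := by
        have := hidx κ⁻¹ (inv_mem hκ) κ hκ (fun h5 => hκR (inv_mem_iff.mp h5)) hκR
        rwa [inv_inv] at this
      have h5 : u * u ∈ R := by
        have e1 : u * u = ρ * ρ * (κ * κ) := by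
          rw [h3]
          have e2 : ρ * κ * (ρ * κ) = ρ * (κ * ρ) * κ := by group
          rw [e2, (comm ρ hρ κ hκ).eq]; group
        rw [e1]; exact mul_mem (mul_mem hρ hρ) h4
      obtain ⟨l, rfl⟩ := hno
      have h6 : u = ((u * u) ^ l)⁻¹ * u ^ (2 * l + 1) := by rw [pow_succ, pow_mul, pow_two]; group
      rw [h6]
      exact mul_mem (inv_mem (pow_mem h5 l)) h2
  intro P f hf hz hfz x hx
  obtain ⟨φ, hφ, h3⟩ := hC2 P f hf hz hfz
  have h4 := H747.focal_mem hφ ⟨x, hx⟩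
  rw [h3 x hx] at h4
  exact h2 h4

end Cfsg.Agent.H784.Q
end

-- part: H784/Q/CaseA6
section
/-! # S5176, section 4: (A6), the conclusion `S = R K M` (plan: tools/plans/S5176.md) -/
set_option autoImplicit false
set_option linter.unusedSectionVars false

namespace Cfsg.Agent.H784.Q
open Cfsg Cfsg.FusionSystem Cfsg.Agent.H752 Cfsg.Agent.H784.SF

universe u

variable {Ω : Type u} [Group Ω] {S : Subgroup Ω} [Finite S] {F : FusionSystem S} {R : Subgroup Ω} {a b z r : Ω} {m : ℕ}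
variable {t : Ω} {β : Ω → Ω} {c d k w : Ω}

/-- elements of a join of subgroups normalized by `s`. -/
theorem conj_sup {A B : Subgroup Ω} {s : Ω} (hA : ∀ x ∈ A, s * x * s⁻¹ ∈ A) (hB : ∀ x ∈ B, s * x * s⁻¹ ∈ B) :
    ∀ x ∈ A ⊔ B, s * x * s⁻¹ ∈ A ⊔ B := by
  intro x hx
  rw [Subgroup.sup_eq_closure] at hx
  induction hx using Subgroup.closure_induction with
  | mem x hx =>
    rcases hx with hx | hx
    · exact Subgroup.mem_sup_left (hA x hx)
    · exact Subgroup.mem_sup_right (hB x hx)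
  | one => rw [mul_one, mul_inv_cancel]; exact one_mem _
  | mul x y _ _ hx hy =>
    have : s * (x * y) * s⁻¹ = (s * x * s⁻¹) * (s * y * s⁻¹) := by group
    rw [this]; exact mul_mem hx hy
  | inv x _ hx =>
    have : s * x⁻¹ * s⁻¹ = (s * x * s⁻¹)⁻¹ := by group
    rw [this]; exact Subgroup.inv_mem _ hx

theorem CaseA.gen6 (h : CaseA F R a b z r m t c d k β) :
    S = R ⊔ centralizerIn S R ⊔ (Subgroup.zpowers a ⊔ Subgroup.zpowers d) := by
  have h₁ : R ⊔ centralizerIn S R ⊔ (Subgroup.zpowers a ⊔ Subgroup.zpowers d) ≤ S := by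
    refine sup_le (sup_le h.sit.RS ?_) h.MS
    intro x hx
    exact (mem_K.mp hx).1
  have hn : ∀ s ∈ S, ∀ x ∈ R ⊔ centralizerIn S R ⊔ (Subgroup.zpowers a ⊔ Subgroup.zpowers d),
      s * x * s⁻¹ ∈ R ⊔ centralizerIn S R ⊔ (Subgroup.zpowers a ⊔ Subgroup.zpowers d) := by
    intro s hs
    exact conj_sup (conj_sup (h.sit.Rn s hs) (fun x hx => h.sit.Kn hs hx)) (fun x hx => h.M_conj hs hx)
  have hab : ∀ s ∈ S, ∀ s' ∈ S, s * s' * s⁻¹ * s'⁻¹ ∈ R ⊔ centralizerIn S R ⊔ (Subgroup.zpowers a ⊔ Subgroup.zpowers d) :=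
    fun s hs s' hs' => Subgroup.mem_sup_right (h.comm_M hs hs')
  have hc := h.sit.foc_cen _ h₁ hn hab (le_sup_left.trans le_sup_left) (le_sup_right.trans le_sup_left)
  refine (Cfsg.Agent.H745.Q.sit_generation h.sit _ h₁ hn hab hc ?_).symm
  intro t₁ ht₁ hne
  obtain ⟨f, hf, ⟨-, h2⟩, h3⟩ := h.trans_gen
    (fun P f => Mp F P f ∧ ∀ x ∈ P, x⁻¹ * f x ∈ R ⊔ centralizerIn S R ⊔ (Subgroup.zpowers a ⊔ Subgroup.zpowers d))
    (fun P Q f h1 h2 => ⟨h1.1.res h2, fun x hx => h1.2 x (h2 hx)⟩)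
    (fun P Q f g h1 h2 h3 => ⟨h1.1.comp h2.1 h3, fun x hx => by
      have e1 : x⁻¹ * g (f x) = (x⁻¹ * f x) * ((f x)⁻¹ * g (f x)) := by group
      rw [e1]
      exact mul_mem (h1.2 x hx) (h2.2 _ (h3 x hx))⟩)
    (fun P f h1 h2 h3 => ⟨h1, hc P f h1 h2 h3⟩)
    ⟨h.v.mp, fun x hx => Subgroup.mem_sup_right (h.β_M hx)⟩ t₁ ht₁ hne
  exact ⟨f, hf, h3, h2⟩

end Cfsg.Agent.H784.Q
end
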